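import Cfsg.Agent.Lib.Helper22.TA0

/-!
# DO piece LB: every endomorphism of `ker N / (σ - 1) X` lifts to a `σ`-equivariant endomorphism
of the lattice `X` killing `X^σ`
-/

set_option autoImplicit false

namespace Cfsg.Agent.Lib.Helper65.DO

open Cfsg.Agent.Lib.Helper22.TA

/-- an injective homomorphism of elementary abelian `p`-groups has a retraction -/
theorem exists_retract_of_injective {A B : Type*} [AddCommGroup A] [AddCommGroup B] (p : ℕ)
    [Fact p.Prime] (hA : ∀ a : A, p • a = 0) (hB : ∀ b : B, p • b = 0) (ι : A →+ B)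
    (hι : Function.Injective ι) : ∃ r : B →+ A, ∀ a, r (ι a) = a := by
  let _ := AddCommGroup.zmodModule hA
  let _ := AddCommGroup.zmodModule hB
  obtain ⟨g, hg⟩ := LinearMap.exists_leftInverse_of_injective (ι.toZModLinearMap p)
    (LinearMap.ker_eq_bot.2 hι)
  refine ⟨g.toAddMonoidHom, fun a => ?_⟩
  have := LinearMap.congr_fun hg a
  simpa using this

theorem poly_id (m : ℕ) :
    ((Polynomial.X : Polynomial ℤ) - 1) *
        ∑ i ∈ Finset.range m, (i : Polynomial ℤ) * Polynomial.X ^ i =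
      (m : Polynomial ℤ) * Polynomial.X ^ m -
        Polynomial.X * ∑ i ∈ Finset.range m, Polynomial.X ^ i := by
  induction m with
  | zero => simp
  | succ m ih =>
    rw [Finset.sum_range_succ, Finset.sum_range_succ, mul_add, ih]
    push_cast
    ring

section core

variable {X : Type*} [AddCommGroup X]

theorem end_id (τ : Module.End ℤ X) (m : ℕ) :
    (τ - 1) * ∑ i ∈ Finset.range m, (i : Module.End ℤ X) * τ ^ i =
      (m : Module.End ℤ X) * τ ^ m - τ * ∑ i ∈ Finset.range m, τ ^ i := by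
  have h := congrArg (Polynomial.aeval τ) (poly_id m)
  simpa [map_sum] using h

/-- partial geometric sums of `σ` -/
def Tg (σ : Module.End ℤ X) (i : ℕ) : Module.End ℤ X := ∑ j ∈ Finset.range i, σ ^ j

theorem Tg_apply (σ : Module.End ℤ X) (i : ℕ) (v : X) :
    Tg σ i v = ∑ j ∈ Finset.range i, (σ ^ j) v := by
  unfold Tg
  rw [LinearMap.sum_apply]

theorem nrm_eq_Tg (p : ℕ) (σ : Module.End ℤ X) : nrm p σ = Tg σ p := rfl

theorem comm_pow_Tg (σ : Module.End ℤ X) (a i : ℕ) : Commute (σ ^ a) (Tg σ i) :=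
  Commute.sum_right _ _ _ fun j _ => Commute.pow_pow_self σ a j

theorem comm_Tg_Tg (σ : Module.End ℤ X) (i j : ℕ) : Commute (Tg σ i) (Tg σ j) :=
  Commute.sum_left _ _ _ fun a _ => comm_pow_Tg σ a j

theorem Tg_sub_mem (σ : Module.End ℤ X) (i : ℕ) (w : X) : Tg σ i w - (i : ℤ) • w ∈ imD σ := by
  have h : Tg σ i w - (i : ℤ) • w = ∑ j ∈ Finset.range i, ((σ ^ j) w - w) := by
    rw [Tg_apply, Finset.sum_sub_distrib, Finset.sum_const, Finset.card_range, natCast_zsmul]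
  rw [h]
  exact (imD σ).sum_mem fun j _ => pow_sub_mem_imD j w

variable {p : ℕ} {σ : Module.End ℤ X}

theorem pow_apply_of_one (hσ : σ ^ p = 1) (v : X) : (σ ^ p) v = v := by
  rw [hσ, Module.End.one_apply]

theorem nrm_D (hσ : σ ^ p = 1) (w : X) : nrm p σ (σ w - w) = 0 := by
  have h : nrm p σ * (σ - 1) = 0 := by
    rw [nrm_eq_Tg]
    unfold Tg
    rw [geom_sum_mul, hσ, sub_self]
  have h2 := congrArg (fun F : Module.End ℤ X => F w) h
  simpa using h2

theorem D_nrm (hσ : σ ^ p = 1) (w : X) : σ (nrm p σ w) = nrm p σ w := by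
  have h : (σ - 1) * nrm p σ = 0 := by
    rw [nrm_eq_Tg]
    unfold Tg
    rw [mul_geom_sum, hσ, sub_self]
  have h2 := congrArg (fun F : Module.End ℤ X => F w) h
  simp only [Module.End.mul_apply, LinearMap.sub_apply, Module.End.one_apply,
    LinearMap.zero_apply] at h2
  exact sub_eq_zero.1 h2

theorem imD_le_kerN (hσ : σ ^ p = 1) : imD σ ≤ kerN p σ := by
  intro v hv
  obtain ⟨w, rfl⟩ := mem_imD.1 hv
  exact mem_kerN.2 (nrm_D hσ w)

theorem kerN_of_comm {A : Module.End ℤ X} (hA : Commute A (nrm p σ)) {v : X}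
    (hv : v ∈ kerN p σ) : A v ∈ kerN p σ := by
  rw [mem_kerN] at hv ⊢
  have h := congrArg (fun F : Module.End ℤ X => F v) hA.eq
  simp only [Module.End.mul_apply] at h
  rw [← h, hv, map_zero]

theorem kerN_pow (a : ℕ) {v : X} (hv : v ∈ kerN p σ) : (σ ^ a) v ∈ kerN p σ :=
  kerN_of_comm (by rw [nrm_eq_Tg]; exact comm_pow_Tg σ a p) hv

theorem kerN_sigma {v : X} (hv : v ∈ kerN p σ) : σ v ∈ kerN p σ := by
  have := kerN_pow (σ := σ) 1 hv
  rwa [pow_one] at this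

theorem kerN_Tg (i : ℕ) {v : X} (hv : v ∈ kerN p σ) : Tg σ i v ∈ kerN p σ :=
  kerN_of_comm (by rw [nrm_eq_Tg]; exact comm_Tg_Tg σ i p) hv

theorem fix_pow {v : X} (hv : v ∈ fixS σ) (i : ℕ) : (σ ^ i) v = v := by
  induction i with
  | zero => simp
  | succ i ih => rw [pow_succ, Module.End.mul_apply, mem_fixS.1 hv, ih]

theorem fix_inter_ker [Module.IsTorsionFree ℤ X] (hp : p ≠ 0) {v : X} (hf : v ∈ fixS σ)
    (hk : v ∈ kerN p σ) : v = 0 := by
  rw [mem_kerN, nrm_apply, Finset.sum_congr rfl fun i _ => fix_pow hf i, Finset.sum_const,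
    Finset.card_range, ← natCast_zsmul] at hk
  rcases smul_eq_zero.1 hk with h1 | h1
  · exact absurd (by exact_mod_cast h1) hp
  · exact h1

/-- the inverse of `σ` -/
def tauOf (p : ℕ) (σ : Module.End ℤ X) : Module.End ℤ X := σ ^ (p - 1)

theorem sigma_mul_tau (hp : p ≠ 0) (hσ : σ ^ p = 1) : σ * tauOf p σ = 1 := by
  unfold tauOf
  rw [← pow_succ', Nat.sub_add_cancel (Nat.pos_of_ne_zero hp), hσ]

theorem tau_mul_sigma (hp : p ≠ 0) (hσ : σ ^ p = 1) : tauOf p σ * σ = 1 := by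
  unfold tauOf
  rw [← pow_succ, Nat.sub_add_cancel (Nat.pos_of_ne_zero hp), hσ]

theorem tau_pow (hσ : σ ^ p = 1) : tauOf p σ ^ p = 1 := by
  unfold tauOf
  rw [← pow_mul, mul_comm, pow_mul, hσ, one_pow]

theorem sigma_tau_apply (hp : p ≠ 0) (hσ : σ ^ p = 1) (v : X) : σ (tauOf p σ v) = v := by
  have := congrArg (fun F : Module.End ℤ X => F v) (sigma_mul_tau hp hσ)
  simpa using this

theorem tau_pow_fix {v : X} (hv : v ∈ fixS σ) (i : ℕ) : (tauOf p σ ^ i) v = v := by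
  unfold tauOf
  rw [← pow_mul]
  exact fix_pow hv _

theorem kerN_tau_pow (i : ℕ) {v : X} (hv : v ∈ kerN p σ) : (tauOf p σ ^ i) v ∈ kerN p σ := by
  unfold tauOf
  rw [← pow_mul]
  exact kerN_pow _ hv

/-- the norm of `τ = σ⁻¹` has values in the fixed points -/
theorem tau_nrm_fix (hp : p ≠ 0) (hσ : σ ^ p = 1) (x : X) :
    (∑ i ∈ Finset.range p, tauOf p σ ^ i) x ∈ fixS σ := by
  have h : (tauOf p σ - 1) * ∑ i ∈ Finset.range p, tauOf p σ ^ i = 0 := by
    rw [mul_geom_sum, tau_pow hσ, sub_self]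
  have h2 := congrArg (fun F : Module.End ℤ X => F x) h
  simp only [Module.End.mul_apply, LinearMap.sub_apply, Module.End.one_apply,
    LinearMap.zero_apply] at h2
  have h3 : tauOf p σ ((∑ i ∈ Finset.range p, tauOf p σ ^ i) x) =
      (∑ i ∈ Finset.range p, tauOf p σ ^ i) x := sub_eq_zero.1 h2
  rw [mem_fixS]
  conv_lhs => rw [← h3]
  exact sigma_tau_apply hp hσ _

theorem tau_nrm_ker (x : X) (hx : x ∈ kerN p σ) :
    (∑ i ∈ Finset.range p, tauOf p σ ^ i) x ∈ kerN p σ := by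
  rw [LinearMap.sum_apply]
  exact (kerN p σ).sum_mem fun i _ => kerN_tau_pow i hx

/-- the operator attached to `G` -/
def Rop (p : ℕ) (σ G : Module.End ℤ X) : Module.End ℤ X :=
  ∑ i ∈ Finset.range p, Tg σ i * G * tauOf p σ ^ i

/-- its derivative -/
def Sop (p : ℕ) (σ G : Module.End ℤ X) : Module.End ℤ X :=
  ∑ i ∈ Finset.range p, σ ^ i * G * tauOf p σ ^ i

/-- the weighted norm -/
def Gam (p : ℕ) (σ : Module.End ℤ X) : Module.End ℤ X :=
  ∑ i ∈ Finset.range p, (i : Module.End ℤ X) * tauOf p σ ^ i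

theorem Rop_apply (G : Module.End ℤ X) (x : X) :
    Rop p σ G x = ∑ i ∈ Finset.range p, Tg σ i (G ((tauOf p σ ^ i) x)) := by
  unfold Rop
  rw [LinearMap.sum_apply]
  rfl

theorem Gam_apply (x : X) :
    Gam p σ x = ∑ i ∈ Finset.range p, (i : ℤ) • (tauOf p σ ^ i) x := by
  unfold Gam
  rw [LinearMap.sum_apply]
  apply Finset.sum_congr rfl
  intro i _
  rw [Module.End.mul_apply, Module.End.natCast_apply, natCast_zsmul]

theorem Rop_mem_kerN {G : Module.End ℤ X} (hGY : ∀ x, G x ∈ kerN p σ) (x : X) :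
    Rop p σ G x ∈ kerN p σ := by
  rw [Rop_apply]
  exact (kerN p σ).sum_mem fun i _ => kerN_Tg i (hGY _)

theorem Rop_fix {G : Module.End ℤ X} (hGF : ∀ x ∈ fixS σ, G x = 0) {x : X} (hx : x ∈ fixS σ) :
    Rop p σ G x = 0 := by
  rw [Rop_apply]
  apply Finset.sum_eq_zero
  intro i _
  rw [tau_pow_fix hx, hGF x hx, map_zero]

theorem D_Rop (hp : p ≠ 0) (hσ : σ ^ p = 1) {G : Module.End ℤ X}
    (hGF : ∀ x ∈ fixS σ, G x = 0) (x : X) :
    σ (Rop p σ G x) - Rop p σ G x = Sop p σ G x := by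
  have h : (σ - 1) * Rop p σ G = Sop p σ G - G * ∑ i ∈ Finset.range p, tauOf p σ ^ i := by
    unfold Rop Sop
    rw [Finset.mul_sum, Finset.mul_sum, ← Finset.sum_sub_distrib]
    apply Finset.sum_congr rfl
    intro i _
    have h1 : (σ - 1) * Tg σ i = σ ^ i - 1 := by
      unfold Tg
      exact mul_geom_sum σ i
    rw [← mul_assoc, ← mul_assoc, h1, sub_mul, sub_mul, one_mul]
  have h2 := congrArg (fun F : Module.End ℤ X => F x) h
  simp only [Module.End.mul_apply, LinearMap.sub_apply, Module.End.one_apply] at h2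
  rw [h2, hGF _ (tau_nrm_fix hp hσ x), sub_zero]

theorem Sop_comm (hp : p ≠ 0) (hσ : σ ^ p = 1) (G : Module.End ℤ X) :
    Sop p σ G * σ = σ * Sop p σ G := by
  have hb : ∀ i : ℕ, σ ^ (i + 1) * G * tauOf p σ ^ i =
      σ ^ (i + 1) * G * (tauOf p σ ^ (i + 1) * σ) := by
    intro i
    have h0 : tauOf p σ ^ (i + 1) * σ = tauOf p σ ^ i := by
      rw [pow_succ, mul_assoc, tau_mul_sigma hp hσ, mul_one]
    rw [h0]
  have h1 : σ * Sop p σ G =
      ∑ i ∈ Finset.range p, σ ^ (i + 1) * G * (tauOf p σ ^ (i + 1) * σ) := by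
    unfold Sop
    rw [Finset.mul_sum]
    apply Finset.sum_congr rfl
    intro i _
    rw [← hb i, ← mul_assoc, ← mul_assoc, ← pow_succ']
  have h2 : Sop p σ G * σ = ∑ i ∈ Finset.range p, σ ^ i * G * (tauOf p σ ^ i * σ) := by
    unfold Sop
    rw [Finset.sum_mul]
    apply Finset.sum_congr rfl
    intro i _
    rw [mul_assoc]
  have h3 := Finset.sum_range_succ (fun i => σ ^ i * G * (tauOf p σ ^ i * σ)) p
  have h4 := Finset.sum_range_succ' (fun i => σ ^ i * G * (tauOf p σ ^ i * σ)) p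
  rw [h3] at h4
  simp only [hσ, tau_pow hσ, pow_zero, one_mul] at h4
  rw [h1, h2]
  exact add_right_cancel h4

theorem Rop_comm [Module.IsTorsionFree ℤ X] (hp : p ≠ 0) (hσ : σ ^ p = 1) {G : Module.End ℤ X}
    (hGY : ∀ x, G x ∈ kerN p σ) (hGF : ∀ x ∈ fixS σ, G x = 0) (x : X) :
    Rop p σ G (σ x) = σ (Rop p σ G x) := by
  have hk : Rop p σ G (σ x) - σ (Rop p σ G x) ∈ kerN p σ :=
    (kerN p σ).sub_mem (Rop_mem_kerN hGY _) (kerN_sigma (Rop_mem_kerN hGY _))
  have hf : Rop p σ G (σ x) - σ (Rop p σ G x) ∈ fixS σ := by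
    rw [mem_fixS, map_sub]
    have e1 := D_Rop hp hσ hGF (σ x)
    have e2 := D_Rop hp hσ hGF x
    have e3 := congrArg (fun F : Module.End ℤ X => F x) (Sop_comm hp hσ G)
    simp only [Module.End.mul_apply] at e3
    have e4 : σ (σ (Rop p σ G x)) - σ (Rop p σ G x) = σ (Sop p σ G x) := by
      rw [← map_sub, e2]
    rw [e3] at e1
    have e5 : σ (Rop p σ G (σ x)) - σ (σ (Rop p σ G x)) -
        (Rop p σ G (σ x) - σ (Rop p σ G x)) = 0 := by
      have : σ (Rop p σ G (σ x)) - σ (σ (Rop p σ G x)) -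
          (Rop p σ G (σ x) - σ (Rop p σ G x)) =
          (σ (Rop p σ G (σ x)) - Rop p σ G (σ x)) -
            (σ (σ (Rop p σ G x)) - σ (Rop p σ G x)) := by abel
      rw [this, e1, e4, sub_self]
    exact sub_eq_zero.1 e5
  exact sub_eq_zero.1 (fix_inter_ker hp hf hk)

theorem Rop_class (G : Module.End ℤ X) (x : X) :
    Rop p σ G x - G (Gam p σ x) ∈ imD σ := by
  rw [Rop_apply, Gam_apply, map_sum, ← Finset.sum_sub_distrib]
  refine (imD σ).sum_mem fun i _ => ?_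
  rw [map_smul]
  exact Tg_sub_mem σ i _

theorem D_Gam [Module.IsTorsionFree ℤ X] (hp : p ≠ 0) (hσ : σ ^ p = 1) {x : X}
    (hx : x ∈ kerN p σ) : σ (Gam p σ x) - Gam p σ x = -((p : ℤ) • σ x) := by
  have h := end_id (tauOf p σ) p
  rw [tau_pow hσ, mul_one] at h
  have h2 := congrArg (fun F : Module.End ℤ X => F x) h
  simp only [Module.End.mul_apply, LinearMap.sub_apply, Module.End.one_apply,
    Module.End.natCast_apply] at h2
  have h0 : (∑ i ∈ Finset.range p, tauOf p σ ^ i) x = 0 :=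
    fix_inter_ker hp (tau_nrm_fix hp hσ x) (tau_nrm_ker x hx)
  rw [h0, map_zero, sub_zero] at h2
  have h3 : tauOf p σ (Gam p σ x) - Gam p σ x = p • x := h2
  have h4 := congrArg σ h3
  rw [map_sub, sigma_tau_apply hp hσ, map_nsmul] at h4
  rw [← natCast_zsmul] at h4
  rw [← h4]
  abel

end core

variable {X : Type*} [AddCommGroup X] [Module.Free ℤ X] [Module.Finite ℤ X]

theorem liftB (p : ℕ) [Fact p.Prime] (σ : X →ₗ[ℤ] X) (hσ : σ ^ p = 1)
    (f : QB p σ →ₗ[ℤ] QB p σ) :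
    ∃ Φ : X →ₗ[ℤ] X, Φ ∘ₗ σ = σ ∘ₗ Φ ∧ IndA p σ Φ 0 ∧ IndB p σ Φ f := by
  have hpr : p.Prime := Fact.out
  have hp : p ≠ 0 := hpr.ne_zero
  have hcancel : ∀ a b : X, (p : ℤ) • a = (p : ℤ) • b → a = b := by
    intro a b hab
    have h1 : (p : ℤ) • (a - b) = 0 := by rw [smul_sub, hab, sub_self]
    rcases smul_eq_zero.1 h1 with h2 | h2
    · exact absurd (by exact_mod_cast h2) hp
    · exact sub_eq_zero.1 h2
  -- `p • v ∈ imD` for `v ∈ kerN`
  have hpmem : ∀ v ∈ kerN p σ, (p : ℤ) • v ∈ imD σ := by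
    intro v hv
    have h1 := p_smul_QB (p := p) (σ := σ) (mkB p σ v hv)
    rw [← mkB_smul, mkB_eq_zero] at h1
    exact h1
  have hμmem : ∀ v ∈ kerN p σ, -((p : ℤ) • σ v) ∈ imD σ := fun v hv =>
    (imD σ).neg_mem (hpmem _ (kerN_sigma hv))
  let μ : ↥(kerN p σ) →ₗ[ℤ] ↥(imD σ) :=
    { toFun := fun v => ⟨-((p : ℤ) • σ v.1), hμmem v.1 v.2⟩
      map_add' := by
        intro a b
        apply Subtype.ext
        simp only [Submodule.coe_add, map_add, smul_add, neg_add]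
      map_smul' := by
        intro c a
        apply Subtype.ext
        simp only [Submodule.coe_smul, map_smul, RingHom.id_apply, smul_neg]
        rw [smul_comm] }
  have hμ : ∀ v : ↥(kerN p σ), ((μ v : ↥(imD σ)) : X) = -((p : ℤ) • σ v.1) := fun v => rfl
  let pP : Submodule ℤ ↥(imD σ) :=
    LinearMap.range ((p : ℤ) • (LinearMap.id : ↥(imD σ) →ₗ[ℤ] ↥(imD σ)))
  have hpP : ∀ x : ↥(imD σ), x ∈ pP ↔ ∃ d : ↥(imD σ), (p : ℤ) • d = x := by
    intro x
    exact Iff.rfl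
  have hsig_imD : ∀ v ∈ imD σ, σ v ∈ imD σ := by
    intro v hv
    obtain ⟨w, rfl⟩ := mem_imD.1 hv
    exact mem_imD.2 ⟨σ w, by rw [map_sub]⟩
  have hle : (imD σ).submoduleOf (kerN p σ) ≤ LinearMap.ker (pP.mkQ ∘ₗ μ) := by
    intro v hv
    rw [LinearMap.mem_ker, LinearMap.comp_apply, Submodule.mkQ_apply,
      Submodule.Quotient.mk_eq_zero, hpP]
    have hv' : (v : X) ∈ imD σ := hv
    refine ⟨⟨-(σ v.1), (imD σ).neg_mem (hsig_imD _ hv')⟩, ?_⟩
    apply Subtype.ext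
    rw [hμ]
    simp
  have hker : LinearMap.ker (pP.mkQ ∘ₗ μ) ≤ (imD σ).submoduleOf (kerN p σ) := by
    intro v hv
    rw [LinearMap.mem_ker, LinearMap.comp_apply, Submodule.mkQ_apply,
      Submodule.Quotient.mk_eq_zero, hpP] at hv
    obtain ⟨d, hd⟩ := hv
    have h1 := congrArg Subtype.val hd
    rw [hμ] at h1
    have h2 : (p : ℤ) • (d : X) = (p : ℤ) • (-(σ v.1)) := by
      rw [smul_neg]
      exact h1
    have h3 := hcancel _ _ h2
    have h4 : σ v.1 ∈ imD σ := by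
      have : σ v.1 = -(d : X) := by rw [h3, neg_neg]
      rw [this]
      exact (imD σ).neg_mem d.2
    show (v : X) ∈ imD σ
    have h5 : (v : X) = σ v.1 - (σ v.1 - v.1) := by abel
    rw [h5]
    exact (imD σ).sub_mem h4 (mem_imD.2 ⟨_, rfl⟩)
  let ι : QB p σ →ₗ[ℤ] (↥(imD σ) ⧸ pP) := Submodule.liftQ _ (pP.mkQ ∘ₗ μ) hle
  have hιinj : Function.Injective ι :=
    LinearMap.ker_eq_bot.1 (Submodule.ker_liftQ_eq_bot _ _ _ hker)
  have hA : ∀ a : QB p σ, p • a = 0 := by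
    intro a
    rw [← natCast_zsmul]
    exact p_smul_QB a
  have hB : ∀ b : ↥(imD σ) ⧸ pP, p • b = 0 := by
    intro b
    obtain ⟨x, rfl⟩ := Submodule.Quotient.mk_surjective _ b
    rw [← natCast_zsmul, ← Submodule.Quotient.mk_smul, Submodule.Quotient.mk_eq_zero, hpP]
    exact ⟨x, rfl⟩
  obtain ⟨r, hr⟩ := exists_retract_of_injective p hA hB ι.toAddMonoidHom hιinj
  let h : ↥(imD σ) →ₗ[ℤ] QB p σ := f ∘ₗ r.toIntLinearMap ∘ₗ pP.mkQ
  obtain ⟨g₁, hg₁⟩ := Module.projective_lifting_property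
    ((imD σ).submoduleOf (kerN p σ)).mkQ h (Submodule.mkQ_surjective _)
  let D' : X →ₗ[ℤ] ↥(imD σ) := (σ - 1).rangeRestrict
  have hD' : ∀ x : X, ((D' x : ↥(imD σ)) : X) = σ x - x := fun x => rfl
  let G : X →ₗ[ℤ] X := (kerN p σ).subtype ∘ₗ g₁ ∘ₗ D'
  have hG : ∀ x : X, G x = ((g₁ (D' x) : ↥(kerN p σ)) : X) := fun x => rfl
  have hGY : ∀ x, G x ∈ kerN p σ := fun x => (g₁ (D' x)).2
  have hGF : ∀ x ∈ fixS σ, G x = 0 := by
    intro x hx
    have h0 : D' x = 0 := by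
      apply Subtype.ext
      rw [hD', mem_fixS.1 hx, sub_self]
      rfl
    rw [hG, h0, map_zero]
    rfl
  refine ⟨Rop p σ G, ?_, ?_, ?_⟩
  · refine LinearMap.ext fun x => ?_
    rw [LinearMap.comp_apply, LinearMap.comp_apply]
    exact Rop_comm hp hσ hGY hGF x
  · intro v hv
    have h0 : Rop p σ G v = 0 := Rop_fix hGF hv
    refine ⟨by rw [h0]; exact (fixS σ).zero_mem, ?_⟩
    rw [LinearMap.zero_apply]
    symm
    rw [mkA_eq_zero, h0]
    exact (imN p σ).zero_mem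
  · intro v hv
    refine ⟨Rop_mem_kerN hGY v, ?_⟩
    have e1 : mkB p σ (Rop p σ G v) (Rop_mem_kerN hGY v) = mkB p σ (G (Gam p σ v)) (hGY _) :=
      (mkB_eq_mkB _ _).2 (Rop_class G v)
    rw [e1]
    have e2 : D' (Gam p σ v) = μ ⟨v, hv⟩ := by
      apply Subtype.ext
      rw [hD', hμ]
      exact D_Gam hp hσ hv
    have e3 : mkB p σ (G (Gam p σ v)) (hGY _) =
        ((imD σ).submoduleOf (kerN p σ)).mkQ (g₁ (D' (Gam p σ v))) := rfl
    rw [e3, e2]
    have e4 := congrArg (fun F : ↥(imD σ) →ₗ[ℤ] QB p σ => F (μ ⟨v, hv⟩)) hg₁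
    simp only [LinearMap.comp_apply] at e4
    rw [e4]
    show f (mkB p σ v hv) = f (r (pP.mkQ (μ ⟨v, hv⟩)))
    have e5 : pP.mkQ (μ ⟨v, hv⟩) = ι (mkB p σ v hv) := rfl
    rw [e5]
    have e6 := hr (mkB p σ v hv)
    rw [show (ι.toAddMonoidHom (mkB p σ v hv)) = ι (mkB p σ v hv) from rfl] at e6
    rw [e6]

end Cfsg.Agent.Lib.Helper65.DO
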