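import Mathlib

/-! Project RC (helper48, S1152), piece RC-SL2CEN (helper65). -/

set_option autoImplicit false

namespace Cfsg.Agent.Lib.Helper48.RC

theorem sl2_center_card_le {F : Type*} [Field F] [Finite F] :
    Nat.card (Subgroup.center (Matrix.SpecialLinearGroup (Fin 2) F)) ≤ 2 := by
  classical
  have hmem : ∀ A : Subgroup.center (Matrix.SpecialLinearGroup (Fin 2) F),
      ((A : Matrix.SpecialLinearGroup (Fin 2) F) : Matrix (Fin 2) (Fin 2) F) 0 0 ∈
        ({1, -1} : Finset F) := by
    intro A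
    obtain ⟨r, hr, hrs⟩ := Matrix.SpecialLinearGroup.mem_center_iff.1 A.2
    have h0 : ((A : Matrix.SpecialLinearGroup (Fin 2) F) : Matrix (Fin 2) (Fin 2) F) 0 0 = r := by
      rw [← hrs]
      simp
    rw [h0]
    have h2 : (r - 1) * (r + 1) = 0 := by
      have : r ^ 2 = 1 := by simpa using hr
      linear_combination this
    rcases mul_eq_zero.1 h2 with h | h
    · have : r = 1 := sub_eq_zero.1 h
      simp [this]
    · have : r = -1 := eq_neg_of_add_eq_zero_left h
      simp [this]
  have hinj : Function.Injective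
      (fun A : Subgroup.center (Matrix.SpecialLinearGroup (Fin 2) F) =>
        (⟨((A : Matrix.SpecialLinearGroup (Fin 2) F) : Matrix (Fin 2) (Fin 2) F) 0 0, hmem A⟩ :
          ({1, -1} : Finset F))) := by
    intro A B hAB
    have h1 : ((A : Matrix.SpecialLinearGroup (Fin 2) F) : Matrix (Fin 2) (Fin 2) F) 0 0 =
        ((B : Matrix.SpecialLinearGroup (Fin 2) F) : Matrix (Fin 2) (Fin 2) F) 0 0 :=
      congrArg Subtype.val hAB
    obtain ⟨r, hr, hrs⟩ := Matrix.SpecialLinearGroup.mem_center_iff.1 A.2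
    obtain ⟨s, hs, hss⟩ := Matrix.SpecialLinearGroup.mem_center_iff.1 B.2
    have hA0 : ((A : Matrix.SpecialLinearGroup (Fin 2) F) : Matrix (Fin 2) (Fin 2) F) 0 0 = r := by
      rw [← hrs]
      simp
    have hB0 : ((B : Matrix.SpecialLinearGroup (Fin 2) F) : Matrix (Fin 2) (Fin 2) F) 0 0 = s := by
      rw [← hss]
      simp
    have hrs' : r = s := by rw [← hA0, ← hB0, h1]
    apply Subtype.ext
    apply Subtype.ext
    rw [← hrs, ← hss, hrs']
  have h1 := Nat.card_le_card_of_injective _ hinj
  have h2 : Nat.card ({1, -1} : Finset F) ≤ 2 := by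
    rw [Nat.card_eq_fintype_card, Fintype.card_coe]
    exact Finset.card_le_two
  exact h1.trans h2

end Cfsg.Agent.Lib.Helper48.RC
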