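import Mathlib

/-! Project RC (helper48, S1152), piece RC-SL2Z (helper65). -/

set_option autoImplicit false

namespace Cfsg.Agent.Lib.Helper48.RC

theorem sl2z_helper65_comm {F : Type*} [Field F] (h2 : (2 : F) ≠ 0)
    (g : Matrix.SpecialLinearGroup (Fin 2) F)
    (hg : ∀ x : Matrix.SpecialLinearGroup (Fin 2) F,
      g * x * g⁻¹ * x⁻¹ ∈ Subgroup.center (Matrix.SpecialLinearGroup (Fin 2) F))
    (x : Matrix.SpecialLinearGroup (Fin 2) F)
    (hx : Matrix.trace (x : Matrix (Fin 2) (Fin 2) F) = 2) : g * x = x * g := by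
  obtain ⟨r, hr, hrs⟩ := Matrix.SpecialLinearGroup.mem_center_iff.1 (hg x)
  have e1 : (g * x * g⁻¹ * x⁻¹) * x = g * x * g⁻¹ := by group
  have e2 : ((g * x * g⁻¹ * x⁻¹ : Matrix.SpecialLinearGroup (Fin 2) F) :
      Matrix (Fin 2) (Fin 2) F) * (x : Matrix (Fin 2) (Fin 2) F) =
      ((g * x * g⁻¹ : Matrix.SpecialLinearGroup (Fin 2) F) : Matrix (Fin 2) (Fin 2) F) := by
    calc ((g * x * g⁻¹ * x⁻¹ : Matrix.SpecialLinearGroup (Fin 2) F) :
          Matrix (Fin 2) (Fin 2) F) * (x : Matrix (Fin 2) (Fin 2) F)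
        = (((g * x * g⁻¹ * x⁻¹) * x : Matrix.SpecialLinearGroup (Fin 2) F) :
          Matrix (Fin 2) (Fin 2) F) := rfl
      _ = _ := by rw [e1]
  rw [← hrs] at e2
  have e4 : Matrix.trace ((g * x * g⁻¹ : Matrix.SpecialLinearGroup (Fin 2) F) :
      Matrix (Fin 2) (Fin 2) F) = Matrix.trace (x : Matrix (Fin 2) (Fin 2) F) := by
    have e5 : ((g * x * g⁻¹ : Matrix.SpecialLinearGroup (Fin 2) F) : Matrix (Fin 2) (Fin 2) F) =
        (g : Matrix (Fin 2) (Fin 2) F) * ((x : Matrix (Fin 2) (Fin 2) F) *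
          ((g⁻¹ : Matrix.SpecialLinearGroup (Fin 2) F) : Matrix (Fin 2) (Fin 2) F)) := by
      rw [mul_assoc]
      rfl
    rw [e5, Matrix.trace_mul_comm, Matrix.mul_assoc]
    have e6 : ((g⁻¹ : Matrix.SpecialLinearGroup (Fin 2) F) : Matrix (Fin 2) (Fin 2) F) *
        (g : Matrix (Fin 2) (Fin 2) F) = 1 := by
      have : ((g⁻¹ * g : Matrix.SpecialLinearGroup (Fin 2) F) : Matrix (Fin 2) (Fin 2) F) = 1 := by
        rw [inv_mul_cancel]
        rfl
      exact this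
    rw [e6, Matrix.mul_one]
  have e7 : Matrix.trace ((Matrix.scalar (Fin 2)) r * (x : Matrix (Fin 2) (Fin 2) F)) =
      r * Matrix.trace (x : Matrix (Fin 2) (Fin 2) F) := by
    simp [Matrix.trace_fin_two, Matrix.mul_apply, Fin.sum_univ_two, mul_add]
  have e8 := congrArg Matrix.trace e2
  rw [e7, e4, hx] at e8
  have hr1 : r = 1 := by
    have : (r - 1) * 2 = 0 := by linear_combination e8
    rcases mul_eq_zero.1 this with h | h
    · exact sub_eq_zero.1 h
    · exact absurd h h2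
  rw [hr1] at hrs
  have e9 : g * x * g⁻¹ * x⁻¹ = 1 := by
    apply Subtype.ext
    rw [← hrs]
    simp
  calc g * x = (g * x * g⁻¹ * x⁻¹) * x * g := by group
    _ = x * g := by rw [e9, one_mul]

theorem sl2_center_of_comm {F : Type*} [Field F] (h2 : (2 : F) ≠ 0)
    (g : Matrix.SpecialLinearGroup (Fin 2) F)
    (hg : ∀ x : Matrix.SpecialLinearGroup (Fin 2) F,
      g * x * g⁻¹ * x⁻¹ ∈ Subgroup.center (Matrix.SpecialLinearGroup (Fin 2) F)) :
    g ∈ Subgroup.center (Matrix.SpecialLinearGroup (Fin 2) F) := by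
  have hu := sl2z_helper65_comm h2 g hg
    ⟨!![1, 1; 0, 1], by simp [Matrix.det_fin_two]⟩ (by simp [Matrix.trace_fin_two]; norm_num)
  have hl := sl2z_helper65_comm h2 g hg
    ⟨!![1, 0; 1, 1], by simp [Matrix.det_fin_two]⟩ (by simp [Matrix.trace_fin_two]; norm_num)
  have hu' : (g : Matrix (Fin 2) (Fin 2) F) * !![1, 1; 0, 1] =
      !![1, 1; 0, 1] * (g : Matrix (Fin 2) (Fin 2) F) := congrArg Subtype.val hu
  have hl' : (g : Matrix (Fin 2) (Fin 2) F) * !![1, 0; 1, 1] =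
      !![1, 0; 1, 1] * (g : Matrix (Fin 2) (Fin 2) F) := congrArg Subtype.val hl
  have hu00 := congrFun (congrFun hu' 0) 0
  have hu01 := congrFun (congrFun hu' 0) 1
  have hl11 := congrFun (congrFun hl' 1) 1
  simp [Matrix.mul_apply, Fin.sum_univ_two] at hu00 hu01 hl11
  -- hu00 : g 0 0 = g 0 0 + g 1 0 ; hu01 : g 0 0 + g 0 1 = g 0 1 + g 1 1 ; hl11 : g 1 1 = g 0 1 + g 1 1
  have hc : (g : Matrix (Fin 2) (Fin 2) F) 1 0 = 0 := hu00
  have hb : (g : Matrix (Fin 2) (Fin 2) F) 0 1 = 0 := hl11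
  have had : (g : Matrix (Fin 2) (Fin 2) F) 0 0 = (g : Matrix (Fin 2) (Fin 2) F) 1 1 := by
    linear_combination hu01
  rw [Matrix.SpecialLinearGroup.mem_center_iff]
  refine ⟨(g : Matrix (Fin 2) (Fin 2) F) 0 0, ?_, ?_⟩
  · have hdet := g.2
    rw [Matrix.det_fin_two, hc, hb, ← had] at hdet
    simp only [Fintype.card_fin]
    linear_combination hdet
  · ext i j
    fin_cases i <;> fin_cases j <;> simp [Matrix.scalar_apply, hc, hb, had]

end Cfsg.Agent.Lib.Helper48.RC
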