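import Mathlib
import Cfsg.Prelude.Def_ChevE6
import Cfsg.Prelude.Def_ChevE7
import Cfsg.Prelude.Def_ChevE8
import Cfsg.Prelude.Def_ChevStructure

/-!
# Piece PM: the cokernel of the Cartan matrix of `E₆`, `E₇`, `E₈` on a finite cyclic group
-/

set_option autoImplicit false

namespace Cfsg.Agent.Lib.Helper65.ChevDynP

open Cfsg.Lie

theorem prod_zpow_eq_zpow_sum {C : Type*} [CommGroup C] {ι : Type*} (s : Finset ι) (b : C)
    (f : ι → ℤ) : ∏ i ∈ s, b ^ f i = b ^ ∑ i ∈ s, f i := by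
  classical
  induction s using Finset.induction_on with
  | empty => simp
  | insert a s ha ih => rw [Finset.prod_insert ha, Finset.sum_insert ha, zpow_add, ih]

/-- The index of the image of an integer matrix acting on `C ^ n`, from a Smith-normal-form
certificate. -/
theorem core {n : ℕ} {C : Type*} [CommGroup C] [Finite C] [IsCyclic C] (A : Fin n → Fin n → ℤ)
    (m : ℕ) (w u z v : Fin n → ℤ) (B : Fin n → Fin n → ℤ)
    (h1 : ∀ j, ∑ i, A j i * w i = m * u j)
    (h2 : ∀ i k, ∑ j, A j i * B j k = (if i = k then 1 else 0) - v i * w k)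
    (h3 : ∀ i, ∑ j, A j i * z j = m * v i)
    (h4 : ∑ i, w i * v i = 1)
    (K : Subgroup (Fin n → C))
    (hK : ∀ d : Fin n → C, d ∈ K ↔ ∃ s : Fin n → C, ∀ i, d i = ∏ j, s j ^ A j i) :
    K.index = Nat.gcd m (Nat.card C) := by
  classical
  let Ψ : (Fin n → C) →* C :=
    { toFun := fun d => ∏ i, d i ^ w i
      map_one' := by simp
      map_mul' := by
        intro d d'
        simp only [Pi.mul_apply, mul_zpow]
        rw [Finset.prod_mul_distrib] }
  have hΨ : ∀ d, Ψ d = ∏ i, d i ^ w i := fun d => rfl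
  have hsurj : Function.Surjective Ψ := by
    intro t
    refine ⟨fun i => t ^ v i, ?_⟩
    rw [hΨ]
    have e : ∀ i, (t ^ v i) ^ w i = t ^ (w i * v i) := fun i => by rw [← zpow_mul, mul_comm]
    rw [Finset.prod_congr rfl fun i _ => e i, prod_zpow_eq_zpow_sum, h4, zpow_one]
  have hfwd : ∀ s : Fin n → C, Ψ (fun i => ∏ j, s j ^ A j i) = (∏ j, s j ^ u j) ^ m := by
    intro s
    rw [hΨ]
    have e1 : ∀ i, (∏ j, s j ^ A j i) ^ w i = ∏ j, s j ^ (A j i * w i) := by
      intro i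
      rw [← Finset.prod_zpow]
      exact Finset.prod_congr rfl fun j _ => (zpow_mul _ _ _).symm
    rw [Finset.prod_congr rfl fun i _ => e1 i, Finset.prod_comm]
    have e2 : ∀ j, ∏ i, s j ^ (A j i * w i) = (s j ^ u j) ^ m := by
      intro j
      rw [prod_zpow_eq_zpow_sum, h1, mul_comm, zpow_mul, zpow_natCast]
    rw [Finset.prod_congr rfl fun j _ => e2 j, Finset.prod_pow]
  have hmem : ∀ d, d ∈ K ↔ Ψ d ∈ (powMonoidHom m : C →* C).range := by
    intro d
    rw [hK]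
    constructor
    · rintro ⟨s, hs⟩
      have hd : d = fun i => ∏ j, s j ^ A j i := funext hs
      rw [hd, hfwd]
      exact ⟨_, rfl⟩
    · rintro ⟨e, he⟩
      rw [powMonoidHom_apply] at he
      refine ⟨fun j => (∏ k, d k ^ B j k) * e ^ z j, fun i => ?_⟩
      have e1 : ∀ j, ((∏ k, d k ^ B j k) * e ^ z j) ^ A j i =
          (∏ k, d k ^ (A j i * B j k)) * e ^ (A j i * z j) := by
        intro j
        rw [mul_zpow, ← Finset.prod_zpow, ← zpow_mul, mul_comm (z j)]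
        congr 1
        exact Finset.prod_congr rfl fun k _ => by rw [← zpow_mul, mul_comm]
      rw [Finset.prod_congr rfl fun j _ => e1 j, Finset.prod_mul_distrib, Finset.prod_comm]
      have e2 : ∀ k, ∏ j, d k ^ (A j i * B j k) =
          d k ^ (if i = k then (1 : ℤ) else 0) * (d k ^ w k) ^ (-v i) := by
        intro k
        rw [prod_zpow_eq_zpow_sum, h2, sub_eq_add_neg, zpow_add, ← zpow_mul]
        congr 2
        ring
      rw [Finset.prod_congr rfl fun k _ => e2 k, Finset.prod_mul_distrib, Finset.prod_zpow,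
        ← hΨ]
      have e3 : ∏ k, d k ^ (if i = k then (1 : ℤ) else 0) = d i := by
        rw [Finset.prod_eq_single i]
        · simp
        · intro k _ hk
          rw [if_neg (Ne.symm hk), zpow_zero]
        · intro h
          exact absurd (Finset.mem_univ i) h
      rw [e3, prod_zpow_eq_zpow_sum, h3, zpow_mul, zpow_natCast, he, mul_assoc, ← zpow_add,
        neg_add_cancel, zpow_zero, mul_one]
  have hKeq : K = ((powMonoidHom m : C →* C).range).comap Ψ := by
    ext d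
    rw [hmem, Subgroup.mem_comap]
  rw [hKeq, Subgroup.index_comap_of_surjective _ hsurj, IsCyclic.index_powMonoidHom_range,
    Nat.gcd_comm]

set_option maxRecDepth 200000 in
/-- PM: the cokernel of the Cartan matrix of `E₆`, `E₇`, `E₈` on a finite cyclic group -/
theorem pieceM {C : Type*} [CommGroup C] [Finite C] [IsCyclic C] (D : ChevalleyDatum) (m : ℕ)
    (hDm : (D, m) ∈ [(chevE6, 3), (chevE7, 2), (chevE8, 1)]) (K : Subgroup (Fin D.rank → C))
    (hK : ∀ d : Fin D.rank → C, d ∈ K ↔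
      ∃ s : Fin D.rank → C, ∀ i : Fin D.rank, d i = ∏ j : Fin D.rank, s j ^ D.cartan j (D.simple i)) :
    K.index = Nat.gcd m (Nat.card C) := by
  simp only [List.mem_cons, List.mem_nil_iff, or_false, Prod.mk.injEq] at hDm
  rcases hDm with ⟨rfl, rfl⟩ | ⟨rfl, rfl⟩ | ⟨rfl, rfl⟩
  · exact core (n := 6) (fun j i : Fin 6 => chevE6.cartan j (chevE6.simple i)) 3
      ![1, 0, 2, 0, 1, 2] ![0, 0, 1, -1, 0, 1] ![4, 3, 5, 6, 4, 2] ![1, 0, 0, 0, 0, 0]
      ![![0, 1, -1, 2, 0, -2], ![0, 2, 0, 3, 1, -1], ![0, 2, 0, 4, 1, -2], ![0, 3, 0, 6, 2, -2],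
        ![0, 2, 0, 4, 2, -1], ![0, 1, 0, 2, 1, 0]]
      (by decide) (by decide) (by decide) (by decide) K hK
  · exact core (n := 7) (fun j i : Fin 7 => chevE7.cartan j (chevE7.simple i)) 2
      ![0, 1, 0, 0, 1, 0, 1] ![0, 1, 0, -1, 1, -1, 1] ![4, 7, 8, 12, 9, 6, 3]
      ![0, 1, 0, 0, 0, 0, 0]
      ![![2, 0, 3, 4, 1, 2, -1], ![2, 0, 4, 6, 1, 3, -2], ![3, 0, 6, 8, 2, 4, -2],
        ![4, 0, 8, 12, 3, 6, -3], ![3, 0, 6, 9, 3, 5, -2], ![2, 0, 4, 6, 2, 4, -1],
        ![1, 0, 2, 3, 1, 2, 0]]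
      (by decide) (by decide) (by decide) (by decide) K hK
  · exact core (n := 8) (fun j i : Fin 8 => chevE8.cartan j (chevE8.simple i)) 1
      ![1, 0, 0, 0, 0, 0, 0, 0] ![2, 0, -1, 0, 0, 0, 0, 0] ![4, 5, 7, 10, 8, 6, 4, 2]
      ![1, 0, 0, 0, 0, 0, 0, 0]
      ![![0, 5, 7, 10, 8, 6, 4, 2], ![0, 8, 10, 15, 12, 9, 6, 3], ![0, 10, 14, 20, 16, 12, 8, 4],
        ![0, 15, 20, 30, 24, 18, 12, 6], ![0, 12, 16, 24, 20, 15, 10, 5],
        ![0, 9, 12, 18, 15, 12, 8, 4], ![0, 6, 8, 12, 10, 8, 6, 3], ![0, 3, 4, 6, 5, 4, 3, 2]]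
      (by decide) (by decide) (by decide) (by decide) K hK

end Cfsg.Agent.Lib.Helper65.ChevDynP
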