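import Mathlib

/-!
# S2067 piece J3O-CHASE (helper65): the automorphism chase from tables
-/

set_option autoImplicit false

namespace Cfsg.Agent.Lib.Helper65.J3OCHASE

theorem conj_aut_apply {J : Type*} [Group J] (g : J) (α : MulAut J) (z : J) :
    (MulAut.conj g * α) z = g * α z * g⁻¹ := by
  rw [MulAut.mul_apply, MulAut.conj_apply]

theorem orderOf_conj_aut {J : Type*} [Group J] (g : J) (α : MulAut J) (z : J) :
    orderOf (g * α z * g⁻¹) = orderOf z := by
  rw [← conj_aut_apply]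
  exact MulEquiv.orderOf_eq (MulAut.conj g * α) z

theorem rigid_of_tables {J : Type*} [Group J] [Finite J] (a b : J) (x p : ℕ → J) (rep : ℕ → ℕ)
    (r2 : ℕ) (S : Subgroup J) (hS : ∀ g, g ∈ S ↔ ∃ k < 243, p k = g)
    (hsyl : ∀ y : J, orderOf y = 3 → ∃ g : J, g * y * g⁻¹ ∈ S)
    (hb3 : orderOf b = 3)
    (h17 : (a * b) ^ 17 = 1) (h19 : (a * b * a * b * a * b⁻¹) ^ 19 = 1)
    (hinv : ∀ y : J, orderOf y = 2 → ∃ i < 26163, x i = y)
    (hx2 : ∀ i < 26163, orderOf (x i) = 2)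
    (ha2 : orderOf a = 2)
    (hpb : ∀ k < 243, p k * b = b * p k)
    (hp3 : ∀ k < 243, orderOf (p k) = 3 → IsConj (p k) b ∨ ∃ i < 26163, p k * x i = x i * p k)
    (horb : ∀ i < 26163, ∃ k < 243, ∃ m < 111, p k * x i * (p k)⁻¹ = x (rep m))
    (hnc : ∀ m < 111, x (rep m) * b ≠ b * x (rep m))
    (hfp : ∀ m < 111, (x (rep m) * b) ^ 17 = 1 →
      (x (rep m) * b * x (rep m) * b * x (rep m) * b⁻¹) ^ 19 = 1 →
      x (rep m) = a ∨ x (rep m) = x r2) :
    ∀ α : MulAut J, ∃ g : J, g * α b * g⁻¹ = b ∧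
      (g * α a * g⁻¹ = a ∨ g * α a * g⁻¹ = x r2) := by
  intro α
  have hy3 : orderOf (α b) = 3 := by rw [MulEquiv.orderOf_eq α b, hb3]
  obtain ⟨g1, hg1⟩ := hsyl (α b) hy3
  obtain ⟨k, hk, hpk⟩ := (hS _).mp hg1
  have hpk3 : orderOf (p k) = 3 := by rw [hpk, orderOf_conj_aut, hb3]
  -- `p k` is conjugate to `b`
  have hconj : IsConj (p k) b := by
    rcases hp3 k hk hpk3 with h | ⟨i, hi, hcomm⟩
    · exact h
    · exfalso
      -- `w = α⁻¹ (g1⁻¹ x i g1)` is an involution commuting with `b`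
      set w : J := α.symm (g1⁻¹ * x i * g1) with hw
      have hαw : α w = g1⁻¹ * x i * g1 := by rw [hw, MulEquiv.apply_symm_apply]
      have hw2 : orderOf w = 2 := by
        have h1 : orderOf (α w) = 2 := by
          rw [hαw]
          have h2 := orderOf_conj_aut g1⁻¹ (1 : MulAut J) (x i)
          rw [MulAut.one_apply, inv_inv] at h2
          rw [h2, hx2 i hi]
        rw [MulEquiv.orderOf_eq α w] at h1
        exact h1
      have hwb : w * b = b * w := by
        apply α.injective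
        rw [map_mul, map_mul, hαw]
        have h1 : α b = g1⁻¹ * p k * g1 := by rw [hpk]; group
        rw [h1]
        calc g1⁻¹ * x i * g1 * (g1⁻¹ * p k * g1) = g1⁻¹ * (x i * p k) * g1 := by group
          _ = g1⁻¹ * (p k * x i) * g1 := by rw [hcomm]
          _ = g1⁻¹ * p k * g1 * (g1⁻¹ * x i * g1) := by group
      obtain ⟨j, hj, hxj⟩ := hinv w hw2
      obtain ⟨k', hk', m, hm, hkm⟩ := horb j hj
      apply hnc m hm
      rw [← hkm, hxj]
      have h1 := hpb k' hk'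
      have h2 : (p k')⁻¹ * b = b * (p k')⁻¹ := by
        calc (p k')⁻¹ * b = (p k')⁻¹ * (b * p k') * (p k')⁻¹ := by group
          _ = (p k')⁻¹ * (p k' * b) * (p k')⁻¹ := by rw [h1]
          _ = b * (p k')⁻¹ := by group
      calc p k' * w * (p k')⁻¹ * b = p k' * w * ((p k')⁻¹ * b) := by group
        _ = p k' * w * (b * (p k')⁻¹) := by rw [h2]
        _ = p k' * (w * b) * (p k')⁻¹ := by group
        _ = p k' * (b * w) * (p k')⁻¹ := by rw [hwb]
        _ = (p k' * b) * w * (p k')⁻¹ := by group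
        _ = (b * p k') * w * (p k')⁻¹ := by rw [h1]
        _ = b * (p k' * w * (p k')⁻¹) := by group
  obtain ⟨c, hc⟩ := isConj_iff.mp hconj
  set g2 : J := c * g1 with hg2
  have hg2b : g2 * α b * g2⁻¹ = b := by
    have h1 : g2 * α b * g2⁻¹ = c * (g1 * α b * g1⁻¹) * c⁻¹ := by rw [hg2]; group
    rw [h1, ← hpk, hc]
  have hu2 : orderOf (g2 * α a * g2⁻¹) = 2 := by rw [orderOf_conj_aut, ha2]
  obtain ⟨i, hi, hxi⟩ := hinv _ hu2
  obtain ⟨k2, hk2, m, hm, hkm⟩ := horb i hi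
  set g : J := p k2 * g2 with hg
  have hgb : g * α b * g⁻¹ = b := by
    have h1 : g * α b * g⁻¹ = p k2 * (g2 * α b * g2⁻¹) * (p k2)⁻¹ := by rw [hg]; group
    rw [h1, hg2b, hpb k2 hk2]
    group
  have hga : g * α a * g⁻¹ = x (rep m) := by
    have h1 : g * α a * g⁻¹ = p k2 * (g2 * α a * g2⁻¹) * (p k2)⁻¹ := by rw [hg]; group
    rw [h1, ← hxi, hkm]
  refine ⟨g, hgb, ?_⟩
  rw [hga]
  set β : MulAut J := MulAut.conj g * α with hβ
  have hβa : β a = x (rep m) := by rw [hβ, conj_aut_apply, hga]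
  have hβb : β b = b := by rw [hβ, conj_aut_apply, hgb]
  apply hfp m hm
  · have h1 := congrArg β h17
    rw [map_pow, map_mul, hβa, hβb, map_one] at h1
    exact h1
  · have h1 := congrArg β h19
    rw [map_pow, map_mul, map_mul, map_mul, map_mul, map_mul, map_inv, hβa, hβb, map_one] at h1
    exact h1

end Cfsg.Agent.Lib.Helper65.J3OCHASE
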