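import Mathlib
import Cfsg.Prelude.Def_GeometricClasses
import Cfsg.Prelude.Def_LieClassical

/-! Project OMP (helper65): the maximal subgroups of `Ω_n(q)`, `n = 2m+1` an odd prime, `q` odd
(statements S5814 = Ω7, S5859 = Ω11).  Definitions: reindexing transport along an equivalence of
index types, and the discriminant condition. -/

set_option autoImplicit false

namespace Cfsg.Agent.Lib.Helper65.OMP

open Matrix Cfsg.Geo

variable {ι κ : Type} [Fintype ι] [DecidableEq ι] [Fintype κ] [DecidableEq κ]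
  {F : Type*} [Field F]

/-- reindexing of invertible matrices along `e : ι ≃ κ` -/
noncomputable def gmap (e : ι ≃ κ) : GL ι F ≃* GL κ F :=
  Units.mapEquiv (Matrix.reindexAlgEquiv F F e).toMulEquiv

/-- reindexing of vectors along `e : ι ≃ κ`: `v ↦ v ∘ e.symm` -/
def vmap (e : ι ≃ κ) : (ι → F) ≃ₗ[F] (κ → F) := LinearEquiv.funCongrLeft F F e.symm

theorem vmap_apply (e : ι ≃ κ) (v : ι → F) (k : κ) : vmap e v k = v (e.symm k) := rfl

theorem vmap_symm_apply (e : ι ≃ κ) (w : κ → F) (i : ι) : (vmap e).symm w i = w (e i) := rfl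

theorem vmap_symm (e : ι ≃ κ) : ((vmap e).symm : (κ → F) ≃ₗ[F] (ι → F)) = vmap e.symm := rfl

theorem gmap_apply (e : ι ≃ κ) (g : GL ι F) (k l : κ) :
    (gmap e g).1 k l = g.1 (e.symm k) (e.symm l) := rfl

theorem gmap_symm_gmap (e : ι ≃ κ) (g : GL ι F) : gmap e.symm (gmap e g) = g := by
  apply Units.ext
  ext i j
  rw [gmap_apply, gmap_apply]
  simp

theorem gmap_gmap_symm (e : ι ≃ κ) (g : GL κ F) : gmap e (gmap e.symm g) = g := by
  apply Units.ext
  ext i j
  rw [gmap_apply, gmap_apply]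
  simp

theorem gmap_mulVec (e : ι ≃ κ) (g : GL ι F) (v : ι → F) :
    (gmap e g).1 *ᵥ (vmap e v) = vmap e (g.1 *ᵥ v) := by
  funext k
  rw [vmap_apply]
  simp only [Matrix.mulVec, dotProduct]
  rw [← Equiv.sum_comp e]
  refine Finset.sum_congr rfl fun i _ => ?_
  rw [gmap_apply, vmap_apply, Equiv.symm_apply_apply]

theorem gmap_mulVec' (e : ι ≃ κ) (g : GL ι F) (w : κ → F) :
    (gmap e g).1 *ᵥ w = vmap e (g.1 *ᵥ (vmap e).symm w) := by
  rw [← gmap_mulVec, LinearEquiv.apply_symm_apply]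

theorem map_map_gmap (e : ι ≃ κ) (H : Subgroup (GL ι F)) :
    (H.map (gmap e).toMonoidHom).map (gmap e.symm).toMonoidHom = H := by
  ext g
  constructor
  · rintro ⟨_, ⟨x, hx, rfl⟩, rfl⟩
    have : (gmap e.symm).toMonoidHom ((gmap e).toMonoidHom x) = x := gmap_symm_gmap e x
    rw [this]
    exact hx
  · intro hg
    exact ⟨gmap e g, ⟨g, hg, rfl⟩, gmap_symm_gmap e g⟩

theorem mem_map_gmap (e : ι ≃ κ) (H : Subgroup (GL ι F)) (g : GL κ F) :
    g ∈ H.map (gmap e).toMonoidHom ↔ gmap e.symm g ∈ H := by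
  constructor
  · rintro ⟨x, hx, rfl⟩
    have : gmap e.symm ((gmap e).toMonoidHom x) = x := gmap_symm_gmap e x
    rw [this]
    exact hx
  · intro hg
    exact ⟨gmap e.symm g, hg, gmap_gmap_symm e g⟩

/-- transport of a quadratic form along `e : ι ≃ κ` -/
def qmap (e : ι ≃ κ) (Q : QuadraticForm F (ι → F)) : QuadraticForm F (κ → F) :=
  Q.comp ((vmap (F := F) e).symm.toLinearMap)

theorem qmap_apply (e : ι ≃ κ) (Q : QuadraticForm F (ι → F)) (w : κ → F) :
    qmap e Q w = Q ((vmap e).symm w) := rfl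

theorem qmap_vmap (e : ι ≃ κ) (Q : QuadraticForm F (ι → F)) (v : ι → F) :
    qmap e Q (vmap e v) = Q v := by
  rw [qmap_apply, LinearEquiv.symm_apply_apply]

theorem qmap_symm_qmap (e : ι ≃ κ) (Q : QuadraticForm F (ι → F)) :
    qmap e.symm (qmap e Q) = Q := by
  ext v
  rw [qmap_apply, qmap_apply]
  congr 1
  funext i
  rw [vmap_symm_apply, vmap_symm_apply, Equiv.symm_apply_apply]

/-- isometries are transported to isometries -/
theorem map_le_isometryGroup (e : ι ≃ κ) (Q : QuadraticForm F (ι → F)) (H : Subgroup (GL ι F))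
    (hH : H ≤ Cfsg.isometryGroup F ⇑Q) :
    H.map (gmap e).toMonoidHom ≤ Cfsg.isometryGroup F ⇑(qmap e Q) := by
  rintro _ ⟨g, hg, rfl⟩ u v
  show qmap e Q ((gmap e g).1 *ᵥ u) = qmap e Q u
  rw [gmap_mulVec', qmap_vmap, qmap_apply]
  exact hH hg _ 0

/-- the discriminant condition: when `|F|` is the square of the order of a subfield, the
determinant of the Gram matrix of the polar form is a square -/
def SqDisc [Fintype F] (Q : QuadraticForm F (ι → F)) : Prop :=
  ∀ F₁ : Subfield F, Fintype.card F = Nat.card F₁ ^ 2 →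
    IsSquare (Matrix.det (gramMatrix (QuadraticMap.polar ⇑Q)))

/-- `IsMaximalIn K H`, `H ≤ M`, `¬ K ≤ M` give `H = M ⊓ K`. -/
theorem eq_inf_of_max {K H M : Subgroup (GL ι F)} (hH : IsMaximalIn K H) (hHM : H ≤ M)
    (hM : ¬ K ≤ M) : H = M ⊓ K := by
  rcases hH.2 (M ⊓ K) (le_inf hHM hH.1.le) inf_le_right with h | h
  · exact h.symm
  · exact absurd (h ▸ inf_le_left) hM

end Cfsg.Agent.Lib.Helper65.OMP
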