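import Mathlib
import Cfsg.Prelude.Def_GeometricClasses
import Cfsg.Prelude.Def_LieClassical
import Cfsg.Agent.Lib.Helper65.OMPDefs
import Cfsg.Agent.Lib.Helper51.HypPairs

/-! Project OMP (helper65), piece DISC: the exact statement; the proof is to be filled in IN THIS FILE
(keep the statement and the theorem name; auxiliary lemmas above it, names prefixed `DISC_`). -/

set_option autoImplicit false

namespace Cfsg.Agent.Lib.Helper65.OMP

open Matrix Cfsg.Geo
open Cfsg.Agent.Lib.Helper51 (QOdd coe_QOdd)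

variable {ι κ : Type} [Fintype ι] [DecidableEq ι] [Fintype κ] [DecidableEq κ]
  {F : Type*} [Field F] [Fintype F] {n : ℕ}

/-- DISC -/
theorem DISC (hodd : Odd (Fintype.card F)) (m : ℕ) (e : (Unit ⊕ (Fin m ⊕ Fin m)) ≃ κ) :
    SqDisc (qmap e (QOdd m F)) := by
  sorry

end Cfsg.Agent.Lib.Helper65.OMP
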