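import Mathlib
import Cfsg.Prelude.Def_GeometricClasses
import Cfsg.Prelude.Def_LieClassical
import Cfsg.Agent.Lib.Helper65.OMPDefs

/-! Project OMP (helper65), piece NO5: the exact statement; the proof is to be filled in IN THIS FILE
(keep the statement and the theorem name; auxiliary lemmas above it, names prefixed `NO5_`). -/

set_option autoImplicit false

namespace Cfsg.Agent.Lib.Helper65.OMP

open Matrix Cfsg.Geo

variable {ι κ : Type} [Fintype ι] [DecidableEq ι] [Fintype κ] [DecidableEq κ]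
  {F : Type*} [Field F] [Fintype F] {n : ℕ}

/-- NO5 -/
theorem NO5 (hodd : Odd (Fintype.card F)) (m : ℕ) (hm : 3 ≤ m) (F₀ : Subfield F) (r : ℕ)
    (hr : r.Prime) (hcard : Fintype.card F = Nat.card F₀ ^ r)
    (P : GL (Unit ⊕ (Fin m ⊕ Fin m)) F)
    (hP : IsQuadFormRationalStructure (Cfsg.quadFormOdd m F) F₀ P) :
    ¬ omegaGL (Cfsg.quadFormOdd m F) ≤ subfieldSubgroup F₀ P := by
  sorry

end Cfsg.Agent.Lib.Helper65.OMP
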