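import Mathlib
import Cfsg.Prelude.Def_GeometricClasses
import Cfsg.Prelude.Def_LieClassical
import Cfsg.Agent.Lib.Helper65.OMPDefs

/-! Project OMP (helper65), piece O2a: the exact statement; the proof is to be filled in IN THIS FILE
(keep the statement and the theorem name; auxiliary lemmas above it, names prefixed `O2a_`). -/

set_option autoImplicit false

namespace Cfsg.Agent.Lib.Helper65.OMP

open Matrix Cfsg.Geo

variable {ι κ : Type} [Fintype ι] [DecidableEq ι] [Fintype κ] [DecidableEq κ]
  {F : Type*} [Field F] [Fintype F] {n : ℕ}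

/-- O2a -/
theorem O2a (hn : n.Prime) (H : Subgroup (GL (Fin n) F)) (h1 : ActsIrreducibly (matrixSet H))
    (h2 : ¬ ActsAbsolutelyIrreducibly (matrixSet H)) :
    ∃ K : Subalgebra F (Matrix (Fin n) (Fin n) F), IsFieldSubalgebra n K ∧
      ∀ z ∈ K, ∀ x ∈ H, z * x.1 = x.1 * z := by
  sorry

end Cfsg.Agent.Lib.Helper65.OMP
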