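import Mathlib
import Cfsg.Prelude.Def_GeometricClasses
import Cfsg.Prelude.Def_LieClassical
import Cfsg.Agent.Lib.Helper65.OMPDefs

/-! Project OMP (helper65), piece O3c1: the exact statement; the proof is to be filled in IN THIS FILE
(keep the statement and the theorem name; auxiliary lemmas above it, names prefixed `O3c1_`). -/

set_option autoImplicit false

namespace Cfsg.Agent.Lib.Helper65.OMP

open Matrix Cfsg.Geo

variable {ι κ : Type} [Fintype ι] [DecidableEq ι] [Fintype κ] [DecidableEq κ]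
  {F : Type*} [Field F] [Fintype F] {n : ℕ}

/-- O3c1 -/
theorem O3c1 (Q : QuadraticForm F (Fin n → F)) (h2 : (2 : F) ≠ 0) (hn : 1 ≤ n)
    (D : Fin n → Submodule F (Fin n → F)) (hD : IsOrthogonalMDecomposition ⇑Q 1 D) :
    ∃ (b : Fin n → Fin n → F) (d : F), d ≠ 0 ∧ (∀ i, D i = Submodule.span F {b i}) ∧
      (∀ i, Q (b i) = d) ∧ (∀ i j, i ≠ j → QuadraticMap.polar ⇑Q (b i) (b j) = 0) := by
  sorry

end Cfsg.Agent.Lib.Helper65.OMP
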