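import Mathlib
import Cfsg.Prelude.Def_GeometricClasses
import Cfsg.Prelude.Def_LieClassical
import Cfsg.Agent.Lib.Helper65.OMPDefs

/-! Project OMP (helper65), piece O3c2: the exact statement; the proof is to be filled in IN THIS FILE
(keep the statement and the theorem name; auxiliary lemmas above it, names prefixed `O3c2_`).
Proof filled in by helper23. -/

set_option autoImplicit false

namespace Cfsg.Agent.Lib.Helper65.OMP

open Matrix Cfsg.Geo

variable {ι κ : Type} [Fintype ι] [DecidableEq ι] [Fintype κ] [DecidableEq κ]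
  {F : Type*} [Field F] [Fintype F] {n : ℕ}

omit [Fintype F] in
/-- An element of `GL` all of whose entries lie in the subfield comes from `GL` over the subfield. -/
theorem O3c2_mem_range (F₀ : Subfield F) (a : GL (Fin n) F)
    (h : ∀ i j, (a : Matrix (Fin n) (Fin n) F) i j ∈ F₀) :
    a ∈ (Matrix.GeneralLinearGroup.map (F₀.subtype : F₀ →+* F)).range := by
  have hmap : (F₀.subtype : F₀ →+* F).mapMatrix
      (fun i j => (⟨(a : Matrix (Fin n) (Fin n) F) i j, h i j⟩ : F₀))
      = (a : Matrix (Fin n) (Fin n) F) := by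
    ext i j
    rfl
  have hne : (Matrix.of fun i j => (⟨(a : Matrix (Fin n) (Fin n) F) i j, h i j⟩ : F₀)).det ≠ 0 := by
    intro h0
    have h1 := RingHom.map_det (F₀.subtype : F₀ →+* F)
      (Matrix.of fun i j => (⟨(a : Matrix (Fin n) (Fin n) F) i j, h i j⟩ : F₀))
    rw [h0, map_zero] at h1
    have h2 : (a : Matrix (Fin n) (Fin n) F).det = 0 := by
      rw [← hmap]
      exact h1.symm
    exact (Matrix.isUnits_det_units a).ne_zero h2
  refine ⟨Matrix.GeneralLinearGroup.mkOfDetNeZero _ hne, ?_⟩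
  apply Units.ext
  ext i j
  rfl

omit [Fintype F] in
theorem O3c2_mem_subfield (F₀ : Subfield F) (P t : GL (Fin n) F)
    (h : ∀ i j, ((P⁻¹ * t * P : GL (Fin n) F) : Matrix (Fin n) (Fin n) F) i j ∈ F₀) :
    t ∈ Cfsg.Geo.subfieldSubgroup F₀ P := by
  unfold Cfsg.Geo.subfieldSubgroup
  refine Subgroup.mem_map.mpr ⟨P⁻¹ * t * P,
    Subgroup.mem_sup_left (O3c2_mem_range F₀ _ h), ?_⟩
  show P * (P⁻¹ * t * P) * P⁻¹ = t
  group

omit [Fintype F] in
theorem O3c2_polar_self (Q : QuadraticForm F (Fin n → F)) (x : Fin n → F) :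
    QuadraticMap.polar ⇑Q x x = 2 * Q x := by
  have h1 : x + x = (2 : F) • x := (two_smul F x).symm
  unfold QuadraticMap.polar
  rw [h1, QuadraticMap.map_smul, smul_eq_mul]
  ring

omit [Fintype F] in
theorem O3c2_polar_sum (Q : QuadraticForm F (Fin n → F)) (b : Fin n → Fin n → F) (d : F)
    (hQb : ∀ i, Q (b i) = d) (horth : ∀ i j, i ≠ j → QuadraticMap.polar ⇑Q (b i) (b j) = 0)
    (u : Fin n → F) (j : Fin n) :
    QuadraticMap.polar ⇑Q (b j) (∑ i, u i • b i) = u j * (2 * d) := by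
  rw [← QuadraticMap.polarBilin_apply_apply, map_sum, Finset.sum_eq_single j]
  · rw [map_smul, QuadraticMap.polarBilin_apply_apply, O3c2_polar_self, hQb, smul_eq_mul]
  · intro i _ hij
    rw [map_smul, QuadraticMap.polarBilin_apply_apply, horth j i (Ne.symm hij), smul_zero]
  · intro h; exact absurd (Finset.mem_univ j) h

omit [Fintype F] in
theorem O3c2_Q_sum (Q : QuadraticForm F (Fin n → F)) (h2 : (2 : F) ≠ 0) (b : Fin n → Fin n → F) (d : F)
    (hQb : ∀ i, Q (b i) = d) (horth : ∀ i j, i ≠ j → QuadraticMap.polar ⇑Q (b i) (b j) = 0)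
    (u : Fin n → F) :
    Q (∑ i, u i • b i) = d * ∑ i, u i ^ 2 := by
  have h1 : QuadraticMap.polar ⇑Q (∑ i, u i • b i) (∑ i, u i • b i) = 2 * Q (∑ i, u i • b i) :=
    O3c2_polar_self Q _
  have h3 : QuadraticMap.polar ⇑Q (∑ i, u i • b i) (∑ i, u i • b i)
      = ∑ j, u j * (u j * (2 * d)) := by
    rw [← QuadraticMap.polarBilin_apply_apply, map_sum]
    apply Finset.sum_congr rfl
    intro j _
    rw [map_smul, QuadraticMap.polarBilin_apply_apply, QuadraticMap.polar_comm,
      O3c2_polar_sum Q b d hQb horth u j, smul_eq_mul]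
  have h4 : 2 * Q (∑ i, u i • b i) = 2 * (d * ∑ i, u i ^ 2) := by
    rw [← h1, h3, Finset.mul_sum, Finset.mul_sum]
    apply Finset.sum_congr rfl
    intro j _
    ring
  exact mul_left_cancel₀ h2 h4

/-- O3c2 -/
theorem O3c2 (Q : QuadraticForm F (Fin n → F)) (h2 : (2 : F) ≠ 0) (H : Subgroup (GL (Fin n) F))
    (hH : H ≤ Cfsg.isometryGroup F ⇑Q) (D : Fin n → Submodule F (Fin n → F))
    (hD : IsMDecomposition 1 D) (hHD : H ≤ decompositionStabilizer D)
    (b : Fin n → Fin n → F) (d : F) (hd : d ≠ 0) (hb : ∀ i, D i = Submodule.span F {b i})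
    (hQb : ∀ i, Q (b i) = d) (horth : ∀ i j, i ≠ j → QuadraticMap.polar ⇑Q (b i) (b j) = 0)
    (F₁ : Subfield F) :
    ∃ P₀ : GL (Fin n) F, (∀ u : Fin n → F, (∀ i, u i ∈ F₁) → d⁻¹ * Q (P₀.1 *ᵥ u) ∈ F₁) ∧
      H ≤ subfieldSubgroup F₁ P₀ := by
  classical
  obtain ⟨A, hA⟩ : ∃ A : Matrix (Fin n) (Fin n) F, A = Matrix.of (fun k i => b i k) := ⟨_, rfl⟩
  have hAmul : ∀ u : Fin n → F, A *ᵥ u = ∑ i, u i • b i := by
    intro u
    funext k
    rw [hA]
    simp only [Matrix.mulVec, dotProduct, Matrix.of_apply, Finset.sum_apply, Pi.smul_apply,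
      smul_eq_mul]
    apply Finset.sum_congr rfl
    intro i _
    ring
  have hinj : Function.Injective A.mulVec := by
    intro u v huv
    have h0 : A *ᵥ (u - v) = 0 := by
      rw [Matrix.mulVec_sub]
      exact sub_eq_zero.2 huv
    rw [hAmul] at h0
    funext j
    have h1 := O3c2_polar_sum Q b d hQb horth (u - v) j
    rw [h0] at h1
    have h3 : QuadraticMap.polar ⇑Q (b j) 0 = 0 := by
      simp [QuadraticMap.polar]
    rw [h3] at h1
    rcases mul_eq_zero.1 h1.symm with h | h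
    · exact sub_eq_zero.1 h
    · exact absurd h (mul_ne_zero h2 hd)
  have hunit : IsUnit A := Matrix.mulVec_injective_iff_isUnit.1 hinj
  obtain ⟨P₀, hP₀⟩ : ∃ P₀ : GL (Fin n) F, P₀.1 = A := ⟨hunit.unit, rfl⟩
  refine ⟨P₀, ?_, ?_⟩
  · intro u hu
    rw [hP₀, hAmul, O3c2_Q_sum Q h2 b d hQb horth u, ← mul_assoc, inv_mul_cancel₀ hd, one_mul]
    exact sum_mem (fun i _ => pow_mem (hu i) 2)
  · intro h hh
    obtain ⟨σ, hσ⟩ := hHD hh
    have hl : ∀ i, ∃ l : F, l • b (σ i) = h.1 *ᵥ b i := by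
      intro i
      have h1 : h.1 *ᵥ b i ∈ D (σ i) := by
        rw [← hσ i]
        refine Submodule.mem_map.2 ⟨b i, ?_, ?_⟩
        · rw [hb i]; exact Submodule.mem_span_singleton_self _
        · rw [Matrix.toLin'_apply]
      rw [hb (σ i)] at h1
      exact Submodule.mem_span_singleton.1 h1
    choose l hl using hl
    have hl1 : ∀ i, l i = 1 ∨ l i = -1 := by
      intro i
      have h1 : Q (h.1 *ᵥ b i) = Q (b i) := hH hh (b i) 0
      rw [← hl i, QuadraticMap.map_smul, hQb, hQb, smul_eq_mul] at h1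
      have h3 : l i * l i = 1 := mul_right_cancel₀ hd (h1.trans (one_mul d).symm)
      exact mul_self_eq_one_iff.1 h3
    apply O3c2_mem_subfield
    intro k i
    have hS : ((P₀⁻¹ * h * P₀ : GL (Fin n) F) : Matrix (Fin n) (Fin n) F)
        = Matrix.of (fun k i => if k = σ i then l i else 0) := by
      have h1 : h.1 * A = A * Matrix.of (fun k i => if k = σ i then l i else 0) := by
        ext k i
        rw [Matrix.mul_apply, Matrix.mul_apply]
        have e1 : ∑ j, h.1 k j * A j i = (h.1 *ᵥ b i) k := by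
          rw [hA]
          simp [Matrix.mulVec, dotProduct]
        rw [e1, ← hl i, hA]
        simp [mul_comm]
      rw [Units.val_mul, Units.val_mul, hP₀, Matrix.mul_assoc, h1, ← hP₀, ← Matrix.mul_assoc,
        ← Units.val_mul, inv_mul_cancel, Units.val_one, Matrix.one_mul]
    rw [hS]
    simp only [Matrix.of_apply]
    split_ifs
    · rcases hl1 i with h | h <;> rw [h]
      · exact one_mem _
      · exact neg_mem (one_mem _)
    · exact zero_mem _

end Cfsg.Agent.Lib.Helper65.OMP
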