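import Mathlib
import Cfsg.Prelude.Def_GeometricClasses
import Cfsg.Prelude.Def_LieClassical
import Cfsg.Agent.Lib.Helper65.OMPDefs

/-! Project OMP (helper65), piece O3iso: the exact statement; the proof is to be filled in IN THIS FILE
(keep the statement and the theorem name; auxiliary lemmas above it, names prefixed `O3iso_`). -/

set_option autoImplicit false

namespace Cfsg.Agent.Lib.Helper65.OMP

open Matrix Cfsg.Geo

variable {ι κ : Type} [Fintype ι] [DecidableEq ι] [Fintype κ] [DecidableEq κ]
  {F : Type*} [Field F] [Fintype F] {n : ℕ}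

/-- O3iso -/
theorem O3iso (Q : QuadraticForm F (Fin n → F)) (H : Subgroup (GL (Fin n) F))
    (hH : H ≤ Cfsg.isometryGroup F ⇑Q) (hirr : ActsIrreducibly (matrixSet H)) {t : ℕ}
    (D : Fin t → Submodule F (Fin n → F)) (hD : IsMDecomposition 1 D)
    (hHD : H ≤ decompositionStabilizer D) :
    ∀ i j, AreIsometricFor ⇑Q (D i) (D j) := by
  sorry

end Cfsg.Agent.Lib.Helper65.OMP
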