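import Mathlib
import Cfsg.Prelude.Def_GeometricClasses
import Cfsg.Prelude.Def_LieClassical
import Cfsg.Agent.Lib.Helper65.OMPDefs

/-! Project OMP (helper65), piece O3nd: the exact statement; the proof is to be filled in IN THIS FILE
(keep the statement and the theorem name; auxiliary lemmas above it, names prefixed `O3nd_`). -/

set_option autoImplicit false

namespace Cfsg.Agent.Lib.Helper65.OMP

open Matrix Cfsg.Geo

variable {ι κ : Type} [Fintype ι] [DecidableEq ι] [Fintype κ] [DecidableEq κ]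
  {F : Type*} [Field F] [Fintype F] {n : ℕ}

/-- O3nd -/
theorem O3nd (Q : QuadraticForm F (Fin n → F)) (hQ : (QuadraticMap.polarBilin Q).Nondegenerate)
    (h2 : (2 : F) ≠ 0) (hodd : Odd n) (H L : Subgroup (GL (Fin n) F))
    (hH : H ≤ Cfsg.isometryGroup F ⇑Q) (hirr : ActsIrreducibly (matrixSet H)) (hLH : L ≤ H)
    (D : Fin n → Submodule F (Fin n → F)) (hD : IsMDecomposition 1 D)
    (hHD : H ≤ decompositionStabilizer D)
    (hiso : ∀ i, ∀ X : Matrix (Fin n) (Fin n) F, (∀ x ∈ L, X * x.1 = x.1 * X) →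
      (D i).map (Matrix.toLin' X) ≤ D i)
    (hinv : ∀ i, ∀ x ∈ L, (D i).map (Matrix.toLin' x.1) ≤ D i) :
    IsNondegenerateMDecomposition (QuadraticMap.polar ⇑Q) 1 D := by
  sorry

end Cfsg.Agent.Lib.Helper65.OMP
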