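import Mathlib
import Cfsg.Prelude.Def_GeometricClasses
import Cfsg.Prelude.Def_LieClassical
import Cfsg.Agent.Lib.Helper65.OMPDefs

/-! Project OMP (helper65), piece O8a: the exact statement; the proof is to be filled in IN THIS FILE
(keep the statement and the theorem name; auxiliary lemmas above it, names prefixed `O8a_`). -/

set_option autoImplicit false

namespace Cfsg.Agent.Lib.Helper65.OMP

open Matrix Cfsg.Geo

variable {ι κ : Type} [Fintype ι] [DecidableEq ι] [Fintype κ] [DecidableEq κ]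
  {F : Type*} [Field F] [Fintype F] {n : ℕ}

/-- O8a -/
theorem O8a (Q : QuadraticForm F (Fin n → F)) (hQ : (QuadraticMap.polarBilin Q).Nondegenerate)
    (h2 : (2 : F) ≠ 0) (hn : 1 ≤ n) (L : Subgroup (GL (Fin n) F))
    (hL : L ≤ Cfsg.isometryGroup F ⇑Q) (hLa : ActsAbsolutelyIrreducibly (matrixSet L))
    (F₁ : Subfield F) (τ : F ≃+* F) (hfix : ∀ x : F, x ∈ F₁ ↔ τ x = x) (B : GL (Fin n) F)
    (hB : ∀ s ∈ matrixSet L, ∀ i j, (B.1 * s * (B⁻¹ : GL (Fin n) F).1) i j ∈ F₁) :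
    ∃ c : F, c ≠ 0 ∧ ∀ u : Fin n → F, (∀ i, u i ∈ F₁) →
      c * Q ((B⁻¹ : GL (Fin n) F).1 *ᵥ u) ∈ F₁ := by
  sorry

end Cfsg.Agent.Lib.Helper65.OMP
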