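import Mathlib
import Cfsg.Prelude.Def_GeometricClasses
import Cfsg.Prelude.Def_LieClassical
import Cfsg.Agent.Lib.Helper65.OMPDefs

/-! Project OMP (helper65), piece O8c: the exact statement; the proof is to be filled in IN THIS FILE
(keep the statement and the theorem name; auxiliary lemmas above it, names prefixed `O8c_`). -/

set_option autoImplicit false

namespace Cfsg.Agent.Lib.Helper65.OMP

open Matrix Cfsg.Geo

variable {ι κ : Type} [Fintype ι] [DecidableEq ι] [Fintype κ] [DecidableEq κ]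
  {F : Type*} [Field F] [Fintype F] {n : ℕ}

/-- O8c -/
theorem O8c (Q : QuadraticForm F (Fin n → F)) (hQ : (QuadraticMap.polarBilin Q).Nondegenerate)
    (h2 : (2 : F) ≠ 0) (hodd : Odd n) (hsq : SqDisc Q) (F₁ : Subfield F)
    (hcard : Fintype.card F = Nat.card F₁ ^ 2) (P₀ : GL (Fin n) F) (c : F) (hc : c ≠ 0)
    (hrat : ∀ u : Fin n → F, (∀ i, u i ∈ F₁) → c * Q (P₀.1 *ᵥ u) ∈ F₁) :
    IsSquare c := by
  sorry

end Cfsg.Agent.Lib.Helper65.OMP
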