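import Mathlib
import Cfsg.Prelude.Def_GeometricClasses
import Cfsg.Prelude.Def_LieClassical
import Cfsg.Agent.Lib.Helper65.OMPDefs

/-! Project OMP (helper65), piece O8d: the exact statement; the proof is to be filled in IN THIS FILE
(keep the statement and the theorem name; auxiliary lemmas above it, names prefixed `O8d_`). -/

set_option autoImplicit false

namespace Cfsg.Agent.Lib.Helper65.OMP

open Matrix Cfsg.Geo

variable {ι κ : Type} [Fintype ι] [DecidableEq ι] [Fintype κ] [DecidableEq κ]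
  {F : Type*} [Field F] [Fintype F] {n : ℕ}

/-- O8d -/
theorem O8d (Q : QuadraticForm F (Fin n → F)) (F₁ : Subfield F) (P₀ : GL (Fin n) F)
    (c s c₁ : F) (hs : s ≠ 0) (hc₁ : c₁ ∈ F₁) (hc₁0 : c₁ ≠ 0) (hc : c = c₁ * s ^ 2)
    (hrat : ∀ u : Fin n → F, (∀ i, u i ∈ F₁) → c * Q (P₀.1 *ᵥ u) ∈ F₁) :
    ∃ P' : GL (Fin n) F, IsQuadFormRationalStructure ⇑Q F₁ P' ∧
      subfieldSubgroup F₁ P' = subfieldSubgroup F₁ P₀ := by
  sorry

end Cfsg.Agent.Lib.Helper65.OMP
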