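import Mathlib
import Cfsg.Prelude.Def_GeometricClasses
import Cfsg.Prelude.Def_LieClassical
import Cfsg.Agent.Lib.Helper65.OMPDefs

/-! Project OMP (helper65), piece QFB: the exact statement; the proof is to be filled in IN THIS FILE
(keep the statement and the theorem name; auxiliary lemmas above it, names prefixed `QFB_`). -/

set_option autoImplicit false

namespace Cfsg.Agent.Lib.Helper65.OMP

open Matrix Cfsg.Geo

variable {ι κ : Type} [Fintype ι] [DecidableEq ι] [Fintype κ] [DecidableEq κ]
  {F : Type*} [Field F] [Fintype F] {n : ℕ}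

/-- QFB -/
theorem QFB (Q : QuadraticForm F (ι → F)) (hQ : (QuadraticMap.polarBilin Q).Nondegenerate) :
    IsBilinearForm (QuadraticMap.polar ⇑Q) ∧ IsNondegenerateForm (QuadraticMap.polar ⇑Q) := by
  refine ⟨⟨?_, ?_, ?_, ?_⟩, ?_⟩
  · intro x y v
    exact QuadraticMap.polar_add_left Q x y v
  · intro c x v
    rw [QuadraticMap.polar_smul_left, smul_eq_mul]
  · intro v x y
    exact QuadraticMap.polar_add_right Q v x y
  · intro c v x
    rw [QuadraticMap.polar_smul_right, smul_eq_mul]
  · intro v hv
    have hex : ∃ x, QuadraticMap.polar (⇑Q) v x ≠ 0 := by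
      by_contra hcon
      push Not at hcon
      apply hv
      apply hQ.1 v
      intro y
      rw [QuadraticMap.polarBilin_apply_apply]
      exact hcon y
    obtain ⟨x, hx⟩ := hex
    exact ⟨⟨x, by rw [QuadraticMap.polar_comm]; exact hx⟩, ⟨x, hx⟩⟩

end Cfsg.Agent.Lib.Helper65.OMP
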