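import Mathlib
import Cfsg.Prelude.Def_GeometricClasses
import Cfsg.Prelude.Def_LieClassical
import Cfsg.Agent.Lib.Helper65.OMPDefs

/-! Project OMP (helper65), piece SQ2: the exact statement; the proof is to be filled in IN THIS FILE
(keep the statement and the theorem name; auxiliary lemmas above it, names prefixed `SQ2_`). -/

set_option autoImplicit false

namespace Cfsg.Agent.Lib.Helper65.OMP

open Matrix Cfsg.Geo

variable {ι κ : Type} [Fintype ι] [DecidableEq ι] [Fintype κ] [DecidableEq κ]
  {F : Type*} [Field F] [Fintype F] {n : ℕ}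

/-- SQ2 -/
theorem SQ2 (F₁ : Subfield F) (hcard : Fintype.card F = Nat.card F₁ ^ 2) (h2 : (2 : F) ≠ 0)
    (x : F) (hx : x ∈ F₁) : IsSquare x := by
  sorry

end Cfsg.Agent.Lib.Helper65.OMP
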