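import Mathlib
import Cfsg.Prelude.Def_GeometricClasses
import Cfsg.Prelude.Def_LieClassical
import Cfsg.Agent.Lib.Helper65.OMPDefs

/-! Project OMP (helper65), piece TRc: the exact statement; the proof is to be filled in IN THIS FILE
(keep the statement and the theorem name; auxiliary lemmas above it, names prefixed `TRc_`). -/

set_option autoImplicit false

namespace Cfsg.Agent.Lib.Helper65.OMP

open Matrix Cfsg.Geo

variable {ι κ : Type} [Fintype ι] [DecidableEq ι] [Fintype κ] [DecidableEq κ]
  {F : Type*} [Field F] [Fintype F] {n : ℕ}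

/-- TRc -/
theorem TRc (e : ι ≃ κ) (Q : QuadraticForm F (ι → F)) {t : ℕ}
    (D : Fin t → Submodule F (ι → F)) (hD : IsOrthogonalMDecomposition ⇑Q 1 D)
    (H : Subgroup (GL ι F)) (hHD : H ≤ decompositionStabilizer D) :
    IsOrthogonalMDecomposition ⇑(qmap e Q) 1 (fun i => (D i).map (vmap e).toLinearMap) ∧
      H.map (gmap e).toMonoidHom ≤
        decompositionStabilizer (fun i => (D i).map (vmap (F := F) e).toLinearMap) := by
  sorry

end Cfsg.Agent.Lib.Helper65.OMP
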