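import Mathlib
import Cfsg.Prelude.Def_GeometricClasses
import Cfsg.Prelude.Def_LieClassical
import Cfsg.Agent.Lib.Helper65.OMPDefs

/-! Project OMP (helper65), piece TRd: the exact statement; the proof is to be filled in IN THIS FILE
(keep the statement and the theorem name; auxiliary lemmas above it, names prefixed `TRd_`). -/

set_option autoImplicit false

namespace Cfsg.Agent.Lib.Helper65.OMP

open Matrix Cfsg.Geo

variable {ι κ : Type} [Fintype ι] [DecidableEq ι] [Fintype κ] [DecidableEq κ]
  {F : Type*} [Field F] [Fintype F] {n : ℕ}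

/-- TRd -/
theorem TRd (e : ι ≃ κ) (Q : QuadraticForm F (ι → F)) (F₀ : Subfield F) (P : GL ι F)
    (hP : IsQuadFormRationalStructure ⇑Q F₀ P) (H : Subgroup (GL ι F))
    (hHP : H ≤ subfieldSubgroup F₀ P) :
    IsQuadFormRationalStructure ⇑(qmap e Q) F₀ (gmap e P) ∧
      H.map (gmap e).toMonoidHom ≤ subfieldSubgroup F₀ (gmap e P) := by
  sorry

end Cfsg.Agent.Lib.Helper65.OMP
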