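import Mathlib
import Cfsg.Prelude.Def_GeometricClasses
import Cfsg.Prelude.Def_LieClassical
import Cfsg.Agent.Lib.Helper65.OMPDefs

/-! Project OMP (helper65), piece TRreal: the exact statement; the proof is to be filled in IN THIS FILE
(keep the statement and the theorem name; auxiliary lemmas above it, names prefixed `TRreal_`). -/

set_option autoImplicit false

namespace Cfsg.Agent.Lib.Helper65.OMP

open Matrix Cfsg.Geo

variable {ι κ : Type} [Fintype ι] [DecidableEq ι] [Fintype κ] [DecidableEq κ]
  {F : Type*} [Field F] [Fintype F] {n : ℕ}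

/-- TRreal -/
theorem TRreal (e : ι ≃ κ) (F₀ : Subfield F) (P : Subgroup (GL ι F))
    (h : RealisableOver F₀ (matrixSet P)) :
    RealisableOver F₀ (matrixSet (P.map (gmap e).toMonoidHom)) := by
  sorry

end Cfsg.Agent.Lib.Helper65.OMP
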