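import Mathlib
import Cfsg.Prelude.Def_GeometricClasses
import Cfsg.Agent.Lib.Helper50.OrthMax

/-!
# The similarity group of a non-degenerate quadratic form is maximal in `SL_n`, `n ≥ 9`

A variant of helper50's `OrthMax` (which needs `n ≥ 11`): the only step using five simultaneous
linear constraints (the construction of the transvection) is re-ordered so that four suffice
(helper65, for `S5837`).
-/

set_option autoImplicit false

namespace Cfsg.Agent.Lib.Helper65.OrthMax9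

open Matrix Cfsg.Agent.Lib.Helper97 Cfsg.Agent.Lib.Helper50 QuadraticMap

section OrthMain

variable {ι : Type} [Fintype ι] [DecidableEq ι] {F : Type*} [Field F]
variable {Q Q' : (ι → F) → F}

omit [DecidableEq ι] in
/-- A non-singular vector in the common kernel of four functionals (the fifth is ignored). -/
theorem nonsing5 (hQ : Cfsg.Geo.IsNondegenerateQuadraticForm Q)
    (hn : 9 ≤ Fintype.card ι) (φ1 φ2 φ3 φ4 _φ5 : ι → F) :
    ∃ z, φ1 ⬝ᵥ z = 0 ∧ φ2 ⬝ᵥ z = 0 ∧ φ3 ⬝ᵥ z = 0 ∧ φ4 ⬝ᵥ z = 0 ∧ True ∧ Q z ≠ 0 := by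
  obtain ⟨z, hz, hq⟩ := exists_nonsing hQ ![φ1, φ2, φ3, φ4] (by simp; omega)
  exact ⟨z, hz 0, hz 1, hz 2, hz 3, trivial, hq⟩

/-- A vector of prescribed norm in the common kernel of three functionals. -/
theorem norm3x [Fintype F] (hQ : Cfsg.Geo.IsNondegenerateQuadraticForm Q)
    (hodd : Odd (Fintype.card F)) (hn : 9 ≤ Fintype.card ι) (φ1 φ2 φ3 : ι → F) (c : F) :
    ∃ z, φ1 ⬝ᵥ z = 0 ∧ φ2 ⬝ᵥ z = 0 ∧ φ3 ⬝ᵥ z = 0 ∧ Q z = c := by
  obtain ⟨d₁, h11, h12, h13, -, -, hd₁⟩ := nonsing5 hQ hn φ1 φ2 φ3 0 0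
  obtain ⟨d₂, h21, h22, h23, h24, -, hd₂⟩ :=
    nonsing5 hQ hn φ1 φ2 φ3 (rho (polar Q) d₁) 0
  rw [rho_dot_s hQ] at h24
  obtain ⟨x, y, hxy⟩ := exists_sq_sum hodd (Q d₁) (Q d₂) c hd₁ hd₂
  refine ⟨x • d₁ + y • d₂, ?_, ?_, ?_, ?_⟩
  · rw [dotProduct_add, dotProduct_smul, dotProduct_smul, h11, h21, smul_zero, smul_zero,
      add_zero]
  · rw [dotProduct_add, dotProduct_smul, dotProduct_smul, h12, h22, smul_zero, smul_zero,
      add_zero]
  · rw [dotProduct_add, dotProduct_smul, dotProduct_smul, h13, h23, smul_zero, smul_zero,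
      add_zero]
  · rw [q_add Q, hQ.smul, hQ.smul, hQ.polar_bilinear.smul_left, hQ.polar_bilinear.smul_right,
      b_symm Q d₁ d₂, h24]
    linear_combination hxy


/-- If `Q'` is not a multiple of `Q`, some `Q`-non-singular `c` has `B'(·, c)` not proportional
to `B(·, c)`. -/
theorem bad9 (hQ : Cfsg.Geo.IsNondegenerateQuadraticForm Q)
    (hQ' : Cfsg.Geo.IsNondegenerateQuadraticForm Q') (h2 : (2 : F) ≠ 0)
    (hn : 9 ≤ Fintype.card ι) (hne : ¬ ∃ l : F, ∀ x, Q' x = l * Q x) :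
    ∃ c, Q c ≠ 0 ∧ ¬ ∃ l : F, ∀ x, polar Q' x c = l * polar Q x c := by
  by_contra hcon
  push Not at hcon
  obtain ⟨c₁, -, -, -, -, -, hc₁⟩ := nonsing5 hQ hn 0 0 0 0 0
  obtain ⟨l₁, hl₁⟩ := hcon c₁ hc₁
  have hb := hQ.polar_bilinear
  have hb' := hQ'.polar_bilinear
  have key : ∀ c₂ w : ι → F, Q c₂ ≠ 0 → polar Q c₁ c₂ = 0 → polar Q w c₁ = 0 →
      polar Q w c₂ = 0 → polar Q' c₁ w = 0 → polar Q' c₂ w = 0 → Q (c₁ + c₂ + w) ≠ 0 →
      ∀ l₂ : F, (∀ x, polar Q' x c₂ = l₂ * polar Q x c₂) → l₂ = l₁ := by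
    intro c₂ w hc₂ h12 hw1 hw2 hw1' hw2' he l₂ hl₂
    obtain ⟨le, hle⟩ := hcon _ he
    have e1 := hle c₁
    rw [hb'.add_right, hb'.add_right, hl₁ c₁, hl₂ c₁, hw1', hb.add_right, hb.add_right, h12,
      b_symm Q c₁ w, hw1, b_self hQ] at e1
    have e2 := hle c₂
    rw [hb'.add_right, hb'.add_right, hl₁ c₂, hl₂ c₂, hw2', hb.add_right, hb.add_right,
      b_symm Q c₂ c₁, h12, b_symm Q c₂ w, hw2, b_self hQ] at e2
    have h3 : le = l₁ := by
      have h : (le - l₁) * (2 * Q c₁) = 0 := by linear_combination -e1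
      rcases mul_eq_zero.mp h with h | h
      · exact sub_eq_zero.mp h
      · exact absurd h (mul_ne_zero h2 hc₁)
    have h4 : le = l₂ := by
      have h : (le - l₂) * (2 * Q c₂) = 0 := by linear_combination -e2
      rcases mul_eq_zero.mp h with h | h
      · exact sub_eq_zero.mp h
      · exact absurd h (mul_ne_zero h2 hc₂)
    rw [← h4, h3]
  have hall : ∀ c₂ : ι → F, Q c₂ ≠ 0 → ∀ x, polar Q' x c₂ = l₁ * polar Q x c₂ := by
    intro c₂ hc₂
    obtain ⟨l₂, hl₂⟩ := hcon c₂ hc₂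
    suffices h : l₂ = l₁ by rw [← h]; exact hl₂
    by_cases h12 : polar Q c₁ c₂ = 0
    · by_cases hs : Q c₁ + Q c₂ = 0
      · obtain ⟨c₃, h31, h32, -, -, -, hc₃⟩ :=
          nonsing5 hQ hn (rho (polar Q) c₁) (rho (polar Q) c₂) 0 0 0
        rw [rho_dot_s hQ] at h31 h32
        obtain ⟨l₃, hl₃⟩ := hcon c₃ hc₃
        apply key c₂ c₃ hc₂ h12 h31 h32 _ _ _ l₂ hl₂
        · rw [hl₃, b_symm Q c₁ c₃, h31, mul_zero]
        · rw [hl₃, b_symm Q c₂ c₃, h32, mul_zero]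
        · rw [q_add Q, q_add Q, h12, hb.add_left, b_symm Q c₁ c₃, h31, b_symm Q c₂ c₃, h32, hs]
          simpa using hc₃
      · apply key c₂ 0 hc₂ h12 (b_zero_left hQ _) (b_zero_left hQ _) (b_zero_right hQ' _)
          (b_zero_right hQ' _) _ l₂ hl₂
        rw [add_zero, q_add Q, h12, add_zero]
        exact hs
    · have e1 := hl₂ c₁
      have e2 := hl₁ c₂
      rw [b_symm Q' c₂ c₁, e1, b_symm Q c₂ c₁] at e2
      exact mul_right_cancel₀ h12 e2
  have hall2 : ∀ c x : ι → F, polar Q' x c = l₁ * polar Q x c := by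
    intro c x
    by_cases hc : Q c = 0
    · obtain ⟨d, hd1, -, -, -, -, hd⟩ := nonsing5 hQ hn (rho (polar Q) c) 0 0 0 0
      rw [rho_dot_s hQ] at hd1
      have hcd : Q (c + d) ≠ 0 := by
        rw [q_add Q, hc, b_symm Q c d, hd1, zero_add, add_zero]
        exact hd
      have e1 := hall (c + d) hcd x
      have e2 := hall d hd x
      rw [hb'.add_right, hb.add_right, e2] at e1
      linear_combination e1
    · exact hall c hc x
  apply hne
  refine ⟨l₁, fun x => ?_⟩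
  have e := hall2 x x
  rw [b_self hQ', b_self hQ] at e
  have h : 2 * (Q' x - l₁ * Q x) = 0 := by linear_combination e
  rcases mul_eq_zero.mp h with h | h
  · exact absurd h h2
  · exact sub_eq_zero.mp h

/-- A transvection in `M`. -/
theorem tv9 (hQ : Cfsg.Geo.IsNondegenerateQuadraticForm Q)
    (hQ' : Cfsg.Geo.IsNondegenerateQuadraticForm Q') (h2 : (2 : F) ≠ 0)
    (hn : 9 ≤ Fintype.card ι) {M : Subgroup (GL ι F)}
    (hM : Cfsg.Geo.quadSimilarityGroup Q ⊓ Cfsg.Geo.specialLinear ι F ≤ M)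
    (hM' : Cfsg.Geo.quadSimilarityGroup Q' ⊓ Cfsg.Geo.specialLinear ι F ≤ M)
    (hne : ¬ ∃ l : F, ∀ x, Q' x = l * Q x) :
    ∃ a ω x : ι → F, a ≠ 0 ∧ TM M a (rho (polar Q) ω) ∧ polar Q x a = 0 ∧ Q x ≠ 0 ∧
      polar Q ω x ≠ 0 := by
  have hb := hQ.polar_bilinear
  have hb' := hQ'.polar_bilinear
  obtain ⟨c, hc, hbad⟩ := bad9 hQ hQ' h2 hn hne
  obtain ⟨d, hd1, hd2, -, -, -, hd⟩ :=
    nonsing5 hQ hn (rho (polar Q) c) (rho (polar Q') c) 0 0 0
  rw [rho_dot_s hQ] at hd1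
  rw [rho_dot_s hQ'] at hd2
  have hcd : polar Q c d = 0 := by rw [b_symm Q c d]; exact hd1
  obtain ⟨b, hb1, hb2, hb3, hb4, -, hbq⟩ := nonsing5 hQ' hn (rho (polar Q) c)
    (rho (polar Q) d) (rho (polar Q') c) (rho (polar Q') d) 0
  rw [rho_dot_s hQ] at hb1 hb2
  rw [rho_dot_s hQ'] at hb3 hb4
  have hcb' : polar Q' c b = 0 := by rw [b_symm Q' c b]; exact hb3
  have hdb' : polar Q' d b = 0 := by rw [b_symm Q' d b]; exact hb4
  have ha₁ : ∃ a₁, polar Q a₁ c = 0 ∧ polar Q a₁ d = 0 ∧ polar Q' a₁ b = 0 ∧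
      polar Q' a₁ c ≠ 0 := by
    by_contra hcon
    push Not at hcon
    apply hbad
    refine ⟨Q' c / Q c, fun x => ?_⟩
    have h1 := hcon (x - (polar Q x c / (2 * Q c)) • c - (polar Q x d / (2 * Q d)) • d -
      (polar Q' x b / (2 * Q' b)) • b) ?_ ?_ ?_
    · rw [form_sub_smul_left hb', form_sub_smul_left hb', form_sub_smul_left hb', b_self hQ',
        hd2, hb3, mul_zero, mul_zero, sub_zero, sub_zero] at h1
      rw [sub_eq_zero.mp h1]
      field_simp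
    · rw [form_sub_smul_left hb, form_sub_smul_left hb, form_sub_smul_left hb, b_self hQ,
        hd1, hb1, mul_zero, mul_zero, sub_zero, sub_zero,
        div_mul_cancel₀ _ (mul_ne_zero h2 hc), sub_self]
    · rw [form_sub_smul_left hb, form_sub_smul_left hb, form_sub_smul_left hb, b_self hQ,
        hcd, hb2, mul_zero, mul_zero, sub_zero, sub_zero,
        div_mul_cancel₀ _ (mul_ne_zero h2 hd), sub_self]
    · rw [form_sub_smul_left hb', form_sub_smul_left hb', form_sub_smul_left hb', b_self hQ',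
        hcb', hdb', mul_zero, mul_zero, sub_zero, sub_zero,
        div_mul_cancel₀ _ (mul_ne_zero h2 hbq), sub_self]
  obtain ⟨a₁, ha₁c, ha₁d, ha₁b, ha₁c'⟩ := ha₁
  have ha : ∃ a, polar Q a c = 0 ∧ polar Q a d = 0 ∧ polar Q' a b = 0 ∧ polar Q' a c ≠ 0 ∧
      Q' a ≠ 0 := by
    by_cases h0 : Q' a₁ = 0
    · obtain ⟨w, hw1, hw2, hw3, hw4, -, hw⟩ := nonsing5 hQ' hn (rho (polar Q) c)
        (rho (polar Q) d) (rho (polar Q') b) (rho (polar Q') a₁) 0
      rw [rho_dot_s hQ] at hw1 hw2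
      rw [rho_dot_s hQ'] at hw3 hw4
      by_cases hs : polar Q' a₁ c + polar Q' w c = 0
      · refine ⟨a₁ - w, ?_, ?_, ?_, ?_, ?_⟩
        · rw [b_sub_left hQ, ha₁c, hw1, sub_zero]
        · rw [b_sub_left hQ, ha₁d, hw2, sub_zero]
        · rw [b_sub_left hQ', ha₁b, hw3, sub_zero]
        · rw [b_sub_left hQ']
          intro h
          apply ha₁c'
          have h3 : 2 * polar Q' a₁ c = 0 := by linear_combination hs + h
          rcases mul_eq_zero.mp h3 with h' | h'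
          · exact absurd h' h2
          · exact h'
        · rw [q_sub hQ', h0, b_symm Q' a₁ w, hw4]
          simpa using hw
      · refine ⟨a₁ + w, ?_, ?_, ?_, ?_, ?_⟩
        · rw [hb.add_left, ha₁c, hw1, add_zero]
        · rw [hb.add_left, ha₁d, hw2, add_zero]
        · rw [hb'.add_left, ha₁b, hw3, add_zero]
        · rw [hb'.add_left]
          exact hs
        · rw [q_add Q', h0, b_symm Q' a₁ w, hw4, zero_add, add_zero]
          exact hw
    · exact ⟨a₁, ha₁c, ha₁d, ha₁b, ha₁c', h0⟩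
  obtain ⟨a, hac, had, hab, hac', ha⟩ := ha
  have hT := comm_TM hQ hQ' hM hM' c d a b hc hd ha hbq hcd hab hac had hb1 hb2 hcb' hdb'
  obtain ⟨κc, hκc⟩ : ∃ κ : F, κ = -(Q' a)⁻¹ * polar Q' c a * -(Q c)⁻¹ := ⟨_, rfl⟩
  obtain ⟨κd, hκd⟩ : ∃ κ : F, κ = -(Q' a)⁻¹ * polar Q' d a * -(Q d)⁻¹ := ⟨_, rfl⟩
  have e : (-(Q' a)⁻¹ * polar Q' c a) • (-(Q c)⁻¹ • rho (polar Q) c) +
      (-(Q' a)⁻¹ * polar Q' d a) • (-(Q d)⁻¹ • rho (polar Q) d) =
      rho (polar Q) (κc • c + κd • d) := by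
    rw [rho_add hb, rho_smul hb, rho_smul hb, smul_smul, smul_smul, hκc, hκd]
  rw [e] at hT
  have hκc0 : κc ≠ 0 := by
    rw [hκc]
    have h1 : polar Q' c a ≠ 0 := by rw [b_symm Q' c a]; exact hac'
    exact mul_ne_zero (mul_ne_zero (neg_ne_zero.mpr (inv_ne_zero ha)) h1)
      (neg_ne_zero.mpr (inv_ne_zero hc))
  refine ⟨a, κc • c + κd • d, c, ?_, hT, ?_, hc, ?_⟩
  · intro h0
    apply ha
    rw [h0]
    exact q_zero hQ'
  · rw [b_symm Q c a]
    exact hac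
  · rw [hb.add_left, hb.smul_left, hb.smul_left, b_self hQ, hd1, mul_zero, add_zero]
    exact mul_ne_zero hκc0 (mul_ne_zero h2 hc)

/-- Making the functional non-singular. -/
theorem nsfun9 (hQ : Cfsg.Geo.IsNondegenerateQuadraticForm Q)
    (hn : 9 ≤ Fintype.card ι) {M : Subgroup (GL ι F)}
    (hM : Cfsg.Geo.quadSimilarityGroup Q ⊓ Cfsg.Geo.specialLinear ι F ≤ M) (v ω x : ι → F)
    (hTM : TM M v (rho (polar Q) ω)) (hxv : polar Q x v = 0) (hx : Q x ≠ 0)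
    (hωx : polar Q ω x ≠ 0) : ∃ ω', TM M v (rho (polar Q) ω') ∧ Q ω' ≠ 0 := by
  have hb := hQ.polar_bilinear
  obtain ⟨y, hy1, hy2, hy3, -, -, hy⟩ := nonsing5 hQ hn (rho (polar Q) v)
    (rho (polar Q) ω) (rho (polar Q) x) 0 0
  rw [rho_dot_s hQ] at hy1 hy2 hy3
  have hh := hM (Rf2_mem hQ x y hx hy)
  have t1 := TM_conj hTM hh
  have hfix : ((RfG hQ x hx * RfG hQ y hy : GL ι F) : Matrix ι ι F) *ᵥ v = v := by
    rw [Rf2_val_mulVec, Rf_fix hQ y v (by rw [b_symm Q v y]; exact hy1),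
      Rf_fix hQ x v (by rw [b_symm Q v x]; exact hxv)]
  rw [gl_inv_fix _ v hfix, rho_vecMul_Rf2 hQ, Rf_mulVec hQ x ω] at t1
  have hfix2 : Rf Q y *ᵥ (ω - (polar Q ω x / Q x) • x) = ω - (polar Q ω x / Q x) • x := by
    apply Rf_fix hQ
    rw [form_sub_smul_left hb, b_symm Q ω y, hy2, b_symm Q x y, hy3, mul_zero, sub_zero]
  rw [hfix2, rho_sub_smul_s hQ] at t1
  have t2 := TM_sub hTM t1
  rw [sub_sub_cancel, ← rho_smul hb] at t2
  refine ⟨_, t2, ?_⟩
  rw [hQ.smul]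
  exact mul_ne_zero (pow_ne_zero 2 (div_ne_zero hωx hx)) hx

/-- Making the centre non-singular. -/
theorem nscentre9 (hQ : Cfsg.Geo.IsNondegenerateQuadraticForm Q) (h2 : (2 : F) ≠ 0)
    (hn : 9 ≤ Fintype.card ι) {M : Subgroup (GL ι F)}
    (hM : Cfsg.Geo.quadSimilarityGroup Q ⊓ Cfsg.Geo.specialLinear ι F ≤ M) (v ω : ι → F)
    (hv : v ≠ 0) (hTM : TM M v (rho (polar Q) ω)) (hω : Q ω ≠ 0) :
    ∃ v', TM M v' (rho (polar Q) ω) ∧ Q v' ≠ 0 := by
  by_cases hqv : Q v = 0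
  swap
  · exact ⟨v, hTM, hqv⟩
  have hb := hQ.polar_bilinear
  have hvω : polar Q v ω = 0 := by
    have := hTM.1
    rwa [rho_dot_s hQ] at this
  obtain ⟨x₀, hx₀⟩ := (hQ.nondegenerate v hv).1
  have hx₁ : ∃ x₁, polar Q x₁ ω = 0 ∧ polar Q x₁ v ≠ 0 := by
    refine ⟨x₀ - (polar Q x₀ ω / (2 * Q ω)) • ω, ?_, ?_⟩
    · rw [form_sub_smul_left hb, b_self hQ, div_mul_cancel₀ _ (mul_ne_zero h2 hω), sub_self]
    · rw [form_sub_smul_left hb, b_symm Q ω v, hvω, mul_zero, sub_zero]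
      exact hx₀
  obtain ⟨x₁, hx₁ω, hx₁v⟩ := hx₁
  have hx : ∃ x, polar Q x ω = 0 ∧ polar Q x v ≠ 0 ∧ Q x ≠ 0 := by
    by_cases h0 : Q x₁ = 0
    · obtain ⟨w, hw1, hw2, hw3, -, -, hw⟩ := nonsing5 hQ hn (rho (polar Q) ω)
        (rho (polar Q) v) (rho (polar Q) x₁) 0 0
      rw [rho_dot_s hQ] at hw1 hw2 hw3
      refine ⟨x₁ + w, ?_, ?_, ?_⟩
      · rw [hb.add_left, hx₁ω, hw1, add_zero]
      · rw [hb.add_left, hw2, add_zero]
        exact hx₁v
      · rw [q_add Q, h0, b_symm Q x₁ w, hw3, zero_add, add_zero]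
        exact hw
    · exact ⟨x₁, hx₁ω, hx₁v, h0⟩
  obtain ⟨x, hxω, hxv, hx⟩ := hx
  obtain ⟨y, hy1, hy2, hy3, -, -, hy⟩ := nonsing5 hQ hn (rho (polar Q) ω)
    (rho (polar Q) v) (rho (polar Q) x) 0 0
  rw [rho_dot_s hQ] at hy1 hy2 hy3
  have hh := M.inv_mem (hM (Rf2_mem hQ x y hx hy))
  have t1 := TM_conj hTM hh
  rw [inv_inv] at t1
  have hψ : rho (polar Q) ω ᵥ* ((RfG hQ x hx * RfG hQ y hy : GL ι F) : Matrix ι ι F) =
      rho (polar Q) ω := by
    rw [rho_vecMul_Rf2 hQ, Rf_fix hQ x ω (by rw [b_symm Q ω x]; exact hxω),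
      Rf_fix hQ y ω (by rw [b_symm Q ω y]; exact hy1)]
  rw [vecMul_inv_fix _ _ hψ, Rf2_val_mulVec, Rf_fix hQ y v (by rw [b_symm Q v y]; exact hy2),
    Rf_mulVec hQ x v] at t1
  have t2 := TM_add_centre hTM t1
  refine ⟨_, t2, ?_⟩
  have hvx : polar Q v x ≠ 0 := by rw [b_symm Q v x]; exact hxv
  have e : Q (v + (v - (polar Q v x / Q x) • x)) = -(polar Q v x) ^ 2 / Q x := by
    rw [q_add Q, q_sub hQ, form_sub_smul_right hb, hb.smul_right, hQ.smul, b_self hQ, hqv]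
    field_simp
    ring
  rw [e]
  exact div_ne_zero (neg_ne_zero.mpr (pow_ne_zero 2 hvx)) hx

section fin

variable [Fintype F]

/-- A non-singular centre of a transvection of `M` with non-singular functional is a centre of
all its transvections. -/
theorem centreTM9 (hQ : Cfsg.Geo.IsNondegenerateQuadraticForm Q)
    (hodd : Odd (Fintype.card F)) (hn : 9 ≤ Fintype.card ι) {M : Subgroup (GL ι F)}
    (hM : Cfsg.Geo.quadSimilarityGroup Q ⊓ Cfsg.Geo.specialLinear ι F ≤ M) (v ω : ι → F)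
    (hTM : TM M v (rho (polar Q) ω)) (_hv : Q v ≠ 0) (hω : Q ω ≠ 0) : v ∈ centres M := by
  have hb := hQ.polar_bilinear
  have h2 := two_ne_zero_of_odd hodd
  have C0 : ∀ ω₁ : ι → F, TM M v (rho (polar Q) ω₁) → Q ω₁ ≠ 0 → ∀ u : ι → F, Q u = 0 →
      polar Q u v = 0 → polar Q u ω₁ = 0 → ∀ s : F, TM M v (rho (polar Q) ((2 * s) • u)) := by
    intro ω₁ hT₁ hω₁ u hu huv huω s
    have hvω₁ : polar Q v ω₁ = 0 := by
      have := hT₁.1
      rwa [rho_dot_s hQ] at this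
    have hQy : Q (ω₁ + s • u) = Q ω₁ := by
      rw [q_expand hQ, hu, b_symm Q ω₁ u, huω, mul_zero, mul_zero, add_zero, add_zero]
    have hy : Q (ω₁ + s • u) ≠ 0 := by rw [hQy]; exact hω₁
    have hpy : polar Q ω₁ (ω₁ + s • u) = 2 * Q ω₁ := by
      rw [hb.add_right, hb.smul_right, b_self hQ, b_symm Q ω₁ u, huω, mul_zero, add_zero]
    have hh := hM (Rf2_mem hQ ω₁ (ω₁ + s • u) hω₁ hy)
    have t1 := TM_conj hT₁ hh
    have hfix : ((RfG hQ ω₁ hω₁ * RfG hQ (ω₁ + s • u) hy : GL ι F) : Matrix ι ι F) *ᵥ v = v := by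
      rw [Rf2_val_mulVec, Rf_fix hQ _ v (by
        rw [hb.add_right, hb.smul_right, hvω₁, b_symm Q v u, huv, mul_zero, add_zero]),
        Rf_fix hQ ω₁ v hvω₁]
    rw [gl_inv_fix _ v hfix, rho_vecMul_Rf2 hQ] at t1
    have e : Rf Q (ω₁ + s • u) *ᵥ (Rf Q ω₁ *ᵥ ω₁) = ω₁ + (2 * s) • u := by
      have h1 : 2 * Q ω₁ / Q ω₁ = 2 := by field_simp
      have h3 : (2 * Q ω₁ - 2 * (2 * Q ω₁)) / Q ω₁ = -2 := by
        field_simp
        ring
      rw [Rf_mulVec hQ ω₁ ω₁, b_self hQ, h1, Rf_mulVec hQ, form_sub_smul_left hb, hpy, hQy, h3]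
      module
    rw [e] at t1
    have t2 := TM_sub t1 hT₁
    rwa [rho_add hb, add_sub_cancel_left] at t2
  have C1 : ∀ ω₁ : ι → F, TM M v (rho (polar Q) ω₁) → Q ω₁ ≠ 0 → ∀ u : ι → F, Q u = 0 →
      polar Q u v = 0 → polar Q u ω₁ = 0 → ∀ t : F, TM M v (rho (polar Q) (t • u)) := by
    intro ω₁ hT₁ hω₁ u hu huv huω t
    have h := C0 ω₁ hT₁ hω₁ u hu huv huω (t / 2)
    rwa [mul_div_cancel₀ _ h2] at h
  have C2 : ∀ ω₁ : ι → F, TM M v (rho (polar Q) ω₁) → Q ω₁ ≠ 0 → ∀ y : ι → F,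
      polar Q y v = 0 → polar Q y ω₁ = 0 → TM M v (rho (polar Q) y) := by
    intro ω₁ hT₁ hω₁ y hyv hyω
    obtain ⟨z, hz1, hz2, hz3, hz⟩ := norm3x hQ hodd hn (rho (polar Q) v)
      (rho (polar Q) ω₁) (rho (polar Q) y) (-Q y)
    rw [rho_dot_s hQ] at hz1 hz2 hz3
    have hyz : polar Q y z = 0 := by rw [b_symm Q y z]; exact hz3
    have hp : Q (y + z) = 0 := by
      rw [q_add Q, hz, hyz]
      ring
    have hm : Q (y - z) = 0 := by
      rw [q_sub hQ, hz, hyz]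
      ring
    have t1 := C1 ω₁ hT₁ hω₁ (y + z) hp (by rw [hb.add_left, hyv, hz1, add_zero])
      (by rw [hb.add_left, hyω, hz2, add_zero]) 2⁻¹
    have t2 := C1 ω₁ hT₁ hω₁ (y - z) hm (by rw [b_sub_left hQ, hyv, hz1, sub_zero])
      (by rw [b_sub_left hQ, hyω, hz2, sub_zero]) 2⁻¹
    have t3 := TM_add t1 t2
    rw [← rho_add hb] at t3
    have e : (2 : F)⁻¹ • (y + z) + (2 : F)⁻¹ • (y - z) = y := by
      rw [← smul_add, add_add_sub_cancel, ← two_smul F y, smul_smul, inv_mul_cancel₀ h2,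
        one_smul]
    rwa [e] at t3
  have hvω : polar Q v ω = 0 := by
    have := hTM.1
    rwa [rho_dot_s hQ] at this
  obtain ⟨z₁, hz11, hz12, -, -, -, hz₁⟩ := nonsing5 hQ hn (rho (polar Q) v)
    (rho (polar Q) ω) 0 0 0
  rw [rho_dot_s hQ] at hz11 hz12
  obtain ⟨z₂, hz21, hz22, hz23, hz₂⟩ := norm3x hQ hodd hn (rho (polar Q) v)
    (rho (polar Q) ω) (rho (polar Q) z₁) (-Q z₁)
  rw [rho_dot_s hQ] at hz21 hz22 hz23
  have hu₀ : Q (z₁ + z₂) = 0 := by
    rw [q_add Q, hz₂, b_symm Q z₁ z₂, hz23]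
    ring
  have hu₀v : polar Q (z₁ + z₂) v = 0 := by rw [hb.add_left, hz11, hz21, add_zero]
  have hu₀ω : polar Q (z₁ + z₂) ω = 0 := by rw [hb.add_left, hz12, hz22, add_zero]
  have tω₂ : TM M v (rho (polar Q) (ω + (z₁ + z₂))) := by
    have t1 := C1 ω hTM hω (z₁ + z₂) hu₀ hu₀v hu₀ω 1
    rw [one_smul] at t1
    have t2 := TM_add hTM t1
    rwa [← rho_add hb] at t2
  have hω₂ : Q (ω + (z₁ + z₂)) ≠ 0 := by
    rw [q_add Q, hu₀, b_symm Q ω (z₁ + z₂), hu₀ω, add_zero, add_zero]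
    exact hω
  apply mem_centres_of_TM
  intro ψ hψ
  obtain ⟨η, rfl⟩ := riesz_s hQ ψ
  rw [rho_dot_s hQ] at hψ
  obtain ⟨u', hu'⟩ : ∃ u' : ι → F, u' = ω - (Q ω / Q z₁) • z₁ := ⟨_, rfl⟩
  have hu'v : polar Q u' v = 0 := by
    rw [hu', form_sub_smul_left hb, b_symm Q ω v, hvω, hz11, mul_zero, sub_zero]
  have hu'ω : polar Q u' ω = 2 * Q ω := by
    rw [hu', form_sub_smul_left hb, b_self hQ, hz12, mul_zero, sub_zero]
  have hu'ω₂ : polar Q u' (ω + (z₁ + z₂)) = 0 := by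
    rw [hb.add_right, hu'ω, hu', form_sub_smul_left hb, b_symm Q ω (z₁ + z₂), hu₀ω,
      hb.add_right, b_self hQ, b_symm Q z₁ z₂, hz23]
    field_simp
    ring
  obtain ⟨s, hs⟩ : ∃ s : F, s = polar Q η ω / (2 * Q ω) := ⟨_, rfl⟩
  have t1 : TM M v (rho (polar Q) (η - s • u')) := by
    apply C2 ω hTM hω
    · rw [form_sub_smul_left hb, b_symm Q η v, hψ, hu'v, mul_zero, sub_zero]
    · rw [form_sub_smul_left hb, hu'ω, hs, div_mul_cancel₀ _ (mul_ne_zero h2 hω), sub_self]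
  have t2 : TM M v (rho (polar Q) (s • u')) := by
    apply C2 _ tω₂ hω₂
    · rw [hb.smul_left, hu'v, mul_zero]
    · rw [hb.smul_left, hu'ω₂, mul_zero]
  have t3 := TM_add t1 t2
  rwa [← rho_add hb, sub_add_cancel] at t3

/-- A subgroup containing the orthogonal similarity group in `SL` and an element which is not
a similarity contains `SL`. -/
theorem overgroup9 [Nontrivial ι] (hQ : Cfsg.Geo.IsNondegenerateQuadraticForm Q)
    (hodd : Odd (Fintype.card F)) (hn : 9 ≤ Fintype.card ι) (M : Subgroup (GL ι F))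
    (hM : Cfsg.Geo.quadSimilarityGroup Q ⊓ Cfsg.Geo.specialLinear ι F ≤ M) (g : GL ι F)
    (hgM : g ∈ M) (hg : g ∉ Cfsg.Geo.quadSimilarityGroup Q) :
    Cfsg.Geo.specialLinear ι F ≤ M := by
  have hb := hQ.polar_bilinear
  have h2 := two_ne_zero_of_odd hodd
  have hQ' := q_comp hQ g
  have hM' := sim_conj_le Q g hgM hM
  have hne : ¬ ∃ l : F, ∀ x, Q ((g : Matrix ι ι F) *ᵥ x) = l * Q x := by
    rintro ⟨l, hl⟩
    apply hg
    have hl0 : l ≠ 0 := by
      intro h0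
      obtain ⟨z, -, -, -, -, -, hz⟩ := nonsing5 hQ hn 0 0 0 0 0
      apply hz
      have h1 := hl (((g⁻¹ : GL ι F) : Matrix ι ι F) *ᵥ z)
      rw [gl_mulVec_inv, h0, zero_mul] at h1
      exact h1
    rw [mem_quadSim_iff]
    exact ⟨Units.mk0 l hl0, fun v => by rw [Units.val_mk0]; exact hl v⟩
  obtain ⟨a, ω, x, ha0, hT, hxa, hx, hωx⟩ := tv9 hQ hQ' h2 hn hM hM' hne
  obtain ⟨ω', hT', hω'⟩ := nsfun9 hQ hn hM a ω x hT hxa hx hωx
  obtain ⟨v, hTv, hv⟩ := nscentre9 hQ h2 hn hM a ω' ha0 hT' hω'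
  have hv0 := centreTM9 hQ hodd hn hM v ω' hTv hv hω'
  have S1 : ∀ v d : ι → F, v ∈ centres M → Q d ≠ 0 → polar Q v d ≠ 0 → d ∈ centres M := by
    intro v d hvC hd hvd
    obtain ⟨e, he1, he2, -, -, -, he⟩ := nonsing5 hQ hn (rho (polar Q) v)
      (rho (polar Q) d) 0 0 0
    rw [rho_dot_s hQ] at he1 he2
    have h1 := centres_smul_mem M hvC (hM (Rf2_mem hQ d e hd he))
    rw [Rf2_val_mulVec, Rf_fix hQ e v (by rw [b_symm Q v e]; exact he1), Rf_mulVec hQ d v] at h1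
    have h3 := centres_add M hvC (centres_smul M h1 (-1))
    have h4 := centres_smul M h3 (Q d / polar Q v d)
    have e : (Q d / polar Q v d) • (v + (-1 : F) • (v - (polar Q v d / Q d) • d)) = d := by
      have h5 : Q d / polar Q v d * (polar Q v d / Q d) = 1 := by field_simp
      rw [neg_one_smul, neg_sub, add_sub_cancel, smul_smul, h5, one_smul]
    rwa [e] at h4
  have hallns : ∀ d : ι → F, Q d ≠ 0 → d ∈ centres M := by
    intro d hd
    by_cases hvd : polar Q v d = 0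
    · have hd₃ : ∃ d₃, Q d₃ ≠ 0 ∧ polar Q v d₃ ≠ 0 ∧ polar Q d₃ d ≠ 0 := by
        by_cases hs : Q v + Q d = 0
        · obtain ⟨w, hw1, hw2, -, -, -, hw⟩ := nonsing5 hQ hn (rho (polar Q) v)
            (rho (polar Q) d) 0 0 0
          rw [rho_dot_s hQ] at hw1 hw2
          refine ⟨v + d + w, ?_, ?_, ?_⟩
          · rw [q_add Q, q_add Q, hvd, hb.add_left, b_symm Q v w, hw1, b_symm Q d w, hw2, hs]
            simpa using hw
          · rw [hb.add_right, hb.add_right, b_self hQ, hvd, b_symm Q v w, hw1, add_zero,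
              add_zero]
            exact mul_ne_zero h2 hv
          · rw [hb.add_left, hb.add_left, hvd, b_self hQ, hw2, zero_add, add_zero]
            exact mul_ne_zero h2 hd
        · refine ⟨v + d, ?_, ?_, ?_⟩
          · rw [q_add Q, hvd, add_zero]
            exact hs
          · rw [hb.add_right, b_self hQ, hvd, add_zero]
            exact mul_ne_zero h2 hv
          · rw [hb.add_left, hvd, b_self hQ, zero_add]
            exact mul_ne_zero h2 hd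
      obtain ⟨d₃, hd₃, hvd₃, hd₃d⟩ := hd₃
      exact S1 d₃ d (S1 v d₃ hv0 hd₃ hvd₃) hd hd₃d
    · exact S1 v d hv0 hd hvd
  have hall : ∀ y : ι → F, y ∈ centres M := by
    intro y
    by_cases hy : Q y = 0
    · obtain ⟨d, hd1, -, -, -, -, hd⟩ := nonsing5 hQ hn (rho (polar Q) y) 0 0 0 0
      rw [rho_dot_s hQ] at hd1
      have h1 : Q (y + d) ≠ 0 := by
        rw [q_add Q, hy, b_symm Q y d, hd1, zero_add, add_zero]
        exact hd
      have h3 := centres_add M (hallns _ h1) (centres_smul M (hallns d hd) (-1))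
      rwa [neg_one_smul, add_neg_cancel_right] at h3
    · exact hallns y hy
  exact specialLinear_le_of_tv M (fun v φ hφ t ht => hall v φ hφ t ht)

end fin

/-- A transvection of determinant one which is not a similarity. -/
theorem notsim9 (hQ : Cfsg.Geo.IsNondegenerateQuadraticForm Q) (h2 : (2 : F) ≠ 0)
    (hn : 9 ≤ Fintype.card ι) :
    ∃ t ∈ Cfsg.Geo.specialLinear ι F, t ∉ Cfsg.Geo.quadSimilarityGroup Q := by
  obtain ⟨x, -, -, -, -, -, hx⟩ := nonsing5 hQ hn 0 0 0 0 0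
  obtain ⟨z, hzx, -, -, -, -, hz⟩ := nonsing5 hQ hn (rho (polar Q) x) 0 0 0 0
  rw [rho_dot_s hQ] at hzx
  have h0 : rho (polar Q) z ⬝ᵥ x = 0 := by
    rw [rho_dot_s hQ, b_symm Q x z]
    exact hzx
  refine ⟨tvG x (rho (polar Q) z) h0, tvG_mem_specialLinear _ _ _, ?_⟩
  intro hmem
  rw [mem_quadSim_iff] at hmem
  obtain ⟨c, hc⟩ := hmem
  have e1 := hc x
  rw [tvG_val, tv_mulVec, h0, zero_smul, add_zero] at e1
  have hc1 : (c : F) = 1 := by
    have h1 : (c : F) * Q x = 1 * Q x := by rw [one_mul]; exact e1.symm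
    exact mul_right_cancel₀ hx h1
  have e2 := hc z
  rw [tvG_val, tv_mulVec, rho_dot_s hQ, b_self hQ, hc1, one_mul, q_expand hQ, hzx] at e2
  have h3 : (2 * Q z) ^ 2 * Q x = 0 := by linear_combination e2
  exact mul_ne_zero (pow_ne_zero 2 (mul_ne_zero h2 hz)) hx h3

end OrthMain

/-- The similarity group of a non-degenerate quadratic form meets `SL_n` in a maximal subgroup
of `SL_n` (finite field of odd order, `n ≥ 9`). -/
theorem orth_isMaximalIn9 {F : Type*} [Field F] [Fintype F] (n : ℕ) (hn : 9 ≤ n)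
    (hodd : Odd (Fintype.card F)) (Q : (Fin n → F) → F)
    (hQ : Cfsg.Geo.IsNondegenerateQuadraticForm Q) :
    Cfsg.Geo.IsMaximalIn (Cfsg.Geo.specialLinear (Fin n) F)
      (Cfsg.Geo.quadSimilarityGroup Q ⊓ Cfsg.Geo.specialLinear (Fin n) F) := by
  have hnt : Nontrivial (Fin n) := Fin.nontrivial_iff_two_le.mpr (by omega)
  have hcard : 9 ≤ Fintype.card (Fin n) := by rw [Fintype.card_fin]; exact hn
  refine ⟨lt_of_le_of_ne inf_le_right ?_, ?_⟩
  · intro heq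
    obtain ⟨t, ht, hts⟩ := notsim9 hQ (two_ne_zero_of_odd hodd) hcard
    rw [← heq] at ht
    exact hts ht.1
  · intro M hHM hMS
    by_cases hMH : M ≤ Cfsg.Geo.quadSimilarityGroup Q ⊓ Cfsg.Geo.specialLinear (Fin n) F
    · left
      exact le_antisymm hMH hHM
    · right
      obtain ⟨g, hgM, hgH⟩ := SetLike.not_le_iff_exists.mp hMH
      exact le_antisymm hMS
        (overgroup9 hQ hodd hcard M hHM g hgM (fun h => hgH ⟨h, hMS hgM⟩))

end Cfsg.Agent.Lib.Helper65.OrthMax9
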