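import Mathlib

set_option autoImplicit false

namespace Cfsg.Agent.Lib.Helper65

open Finset
open scoped commutatorElement

theorem eq_of_pow_eq_of_coprime {H : Type*} [Group H] {a b : H} {r i : ℕ} (hr : 1 < r)
    (ha : a ^ r = 1) (hb : b ^ r = 1) (hi : Nat.Coprime i r) (hab : a ^ i = b ^ i) : a = b := by
  obtain ⟨m, -, hm⟩ := Nat.exists_mul_mod_eq_one_of_coprime hi hr
  have key : ∀ c : H, c ^ r = 1 → c ^ (i * m) = c := by
    intro c hc
    conv_lhs => rw [← Nat.div_add_mod (i * m) r, hm, pow_add, pow_mul, hc, one_pow, one_mul, pow_one]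
  rw [← key a ha, ← key b hb, pow_mul, pow_mul, hab]

theorem inv_pow_mul_pow_mem {H : Type*} [Group H] (Z : Subgroup H) (x : H)
    (h3 : ∀ z ∈ Z, x⁻¹ * z * x ∈ Z) (z : H) (hz : z ∈ Z) (i : ℕ) :
    (x ^ i)⁻¹ * (x * z) ^ i ∈ Z := by
  induction i with
  | zero => simp
  | succ i ih =>
    have : (x ^ (i + 1))⁻¹ * (x * z) ^ (i + 1) = x⁻¹ * ((x ^ i)⁻¹ * (x * z) ^ i) * x * z := by
      rw [pow_succ, pow_succ]; group
    rw [this]
    exact Z.mul_mem (h3 _ ih) hz

/-- A Frobenius-type counting argument: if `Z` and all `x * z` act fixed-point-freely on the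
commutative group `V`, then `V` has exponent dividing `|Z|`. -/
theorem fpf_frobenius_pow_card {V H : Type*} [CommGroup V] [Group H]
    (φ : H →* MulAut V) (Z : Subgroup H) [Finite Z] (x : H) (r : ℕ) (hr : r.Prime)
    (hZ1 : ∃ z ∈ Z, z ≠ 1)
    (h1 : ∀ z ∈ Z, z ≠ 1 → ∀ v : V, φ z v = v → v = 1)
    (h2 : ∀ z ∈ Z, (x * z) ^ r = 1)
    (h3 : ∀ z ∈ Z, x⁻¹ * z * x ∈ Z)
    (h4 : ∀ z ∈ Z, ∀ v : V, φ (x * z) v = v → v = 1) :
    ∀ v : V, v ^ Nat.card Z = 1 := by
  classical
  have : Fintype Z := Fintype.ofFinite Z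
  intro v
  have hA : ∀ w : V, ∏ z : Z, φ (z : H) w = 1 := by
    intro w
    obtain ⟨z₀, hz₀, hz₀1⟩ := hZ1
    apply h1 z₀ hz₀ hz₀1
    rw [map_prod]
    have h : ∀ z : Z, φ z₀ (φ (z : H) w) = φ (((⟨z₀, hz₀⟩ : Z) * z : Z) : H) w := by
      intro z
      simp [map_mul]
    simp_rw [h]
    exact Fintype.prod_equiv (Equiv.mulLeft (⟨z₀, hz₀⟩ : Z)) _ _ (fun z => rfl)
  have hB : ∀ z ∈ Z, ∏ i ∈ range r, φ ((x * z) ^ i) v = 1 := by
    intro z hz
    apply h4 z hz
    rw [map_prod]
    have h : ∀ i, φ (x * z) (φ ((x * z) ^ i) v) = φ ((x * z) ^ (i + 1)) v := by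
      intro i
      rw [pow_succ', ← MulAut.mul_apply, ← map_mul]
    simp_rw [h]
    have e1 := Finset.prod_range_succ (fun i => φ ((x * z) ^ i) v) r
    have e2 := Finset.prod_range_succ' (fun i => φ ((x * z) ^ i) v) r
    rw [e1] at e2
    simp only [h2 z hz, map_one, pow_zero, MulAut.one_apply] at e2
    exact (mul_right_cancel e2).symm
  have key : ∏ z : Z, ∏ i ∈ range r, φ ((x * (z : H)) ^ i) v = 1 :=
    Finset.prod_eq_one (fun z _ => hB z z.2)
  rw [Finset.prod_comm] at key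
  have hx1 : x ^ r = 1 := by simpa using h2 1 Z.one_mem
  have hinner : ∀ i ∈ range r, i ≠ 0 → ∏ z : Z, φ ((x * (z : H)) ^ i) v = 1 := by
    intro i hi hi0
    have hir : i < r := Finset.mem_range.mp hi
    have hcop : Nat.Coprime i r := by
      rw [Nat.coprime_comm]
      exact (Nat.Prime.coprime_iff_not_dvd hr).mpr
        (Nat.not_dvd_of_pos_of_lt (Nat.pos_of_ne_zero hi0) hir)
    let e : Z → Z := fun z => ⟨(x ^ i)⁻¹ * (x * (z : H)) ^ i, inv_pow_mul_pow_mem Z x h3 z z.2 i⟩
    have einj : Function.Injective e := by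
      intro z z' hzz'
      have h5 : (x ^ i)⁻¹ * (x * (z : H)) ^ i = (x ^ i)⁻¹ * (x * (z' : H)) ^ i :=
        congrArg Subtype.val hzz'
      have h6 : (x * (z : H)) ^ i = (x * (z' : H)) ^ i := mul_left_cancel h5
      have h7 := eq_of_pow_eq_of_coprime hr.one_lt (h2 z z.2) (h2 z' z'.2) hcop h6
      exact Subtype.ext (mul_left_cancel h7)
    have ebij : Function.Bijective e := Finite.injective_iff_bijective.mp einj
    have h8 : ∀ z : Z, φ ((x * (z : H)) ^ i) v = φ (x ^ i) (φ ((e z : Z) : H) v) := by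
      intro z
      rw [← MulAut.mul_apply, ← map_mul]
      congr 2
      simp [e]
    simp_rw [h8]
    rw [← map_prod]
    have h9 : ∏ z : Z, φ ((e z : Z) : H) v = ∏ z : Z, φ (z : H) v :=
      Fintype.prod_bijective e ebij _ _ (fun z => rfl)
    rw [h9, hA v, map_one]
  rw [Finset.prod_eq_single 0 (fun i hi hi0 => hinner i hi hi0)
    (fun h => absurd (Finset.mem_range.mpr hr.pos) h)] at key
  simpa using key

/-- Elements of order dividing `p` in the centre of `P`, as a subgroup of `G`. -/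
def omegaCenter {G : Type*} [Group G] (P : Subgroup G) (p : ℕ) : Subgroup G where
  carrier := {z | z ∈ P ∧ (∀ w ∈ P, w * z = z * w) ∧ z ^ p = 1}
  mul_mem' := by
    rintro a b ⟨ha, hac, hap⟩ ⟨hb, hbc, hbp⟩
    refine ⟨P.mul_mem ha hb, ?_, ?_⟩
    · intro w hw
      rw [← mul_assoc, hac w hw, mul_assoc, hbc w hw, mul_assoc]
    · have : Commute a b := hbc a ha
      rw [this.mul_pow, hap, hbp, one_mul]
  one_mem' := ⟨P.one_mem, by simp, by simp⟩
  inv_mem' := by
    rintro a ⟨ha, hac, hap⟩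
    refine ⟨P.inv_mem ha, ?_, by simp [hap]⟩
    intro w hw
    have := hac w hw
    calc w * a⁻¹ = a⁻¹ * (a * w) * a⁻¹ := by group
      _ = a⁻¹ * (w * a) * a⁻¹ := by rw [this]
      _ = a⁻¹ * w := by group

theorem omegaCenter_le {G : Type*} [Group G] (P : Subgroup G) (p : ℕ) : omegaCenter P p ≤ P :=
  fun _ hz => hz.1

theorem omegaCenter_comm {G : Type*} [Group G] (P : Subgroup G) (p : ℕ) (a : G)
    (ha : a ∈ omegaCenter P p) (b : G) (hb : b ∈ omegaCenter P p) : a * b = b * a :=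
  hb.2.1 a ha.1

theorem omegaCenter_pow {G : Type*} [Group G] (P : Subgroup G) (p : ℕ) (a : G)
    (ha : a ∈ omegaCenter P p) : a ^ p = 1 := ha.2.2

theorem omegaCenter_conj_mem {G : Type*} [Group G] (P : Subgroup G) (p : ℕ) (g : G)
    (hg : g ∈ (Subgroup.normalizer (P : Set G))) (z : G) (hz : z ∈ omegaCenter P p) : g * z * g⁻¹ ∈ omegaCenter P p := by
  obtain ⟨hzP, hzc, hzp⟩ := hz
  refine ⟨(Subgroup.mem_normalizer_iff.mp hg z).mp hzP, ?_, ?_⟩
  · intro w hw
    have hw' : g⁻¹ * w * g ∈ P := by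
      have := (Subgroup.mem_normalizer_iff.mp ((Subgroup.normalizer (P : Set G)).inv_mem hg) w).mp hw
      simpa using this
    have := hzc _ hw'
    calc w * (g * z * g⁻¹) = g * ((g⁻¹ * w * g) * z) * g⁻¹ := by group
      _ = g * (z * (g⁻¹ * w * g)) * g⁻¹ := by rw [this]
      _ = g * z * g⁻¹ * w := by group
  · rw [conj_pow, hzp]; simp

theorem normalizer_le_normalizer_omegaCenter {G : Type*} [Group G] (P : Subgroup G) (p : ℕ) :
    (Subgroup.normalizer (P : Set G)) ≤ Subgroup.normalizer ((omegaCenter P p : Subgroup G) : Set G) := by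
  intro g hg
  rw [Subgroup.mem_normalizer_iff]
  intro z
  constructor
  · exact omegaCenter_conj_mem P p g hg z
  · intro h
    have := omegaCenter_conj_mem P p g⁻¹ ((Subgroup.normalizer (P : Set G)).inv_mem hg) _ h
    have e : g⁻¹ * (g * z * g⁻¹) * g⁻¹⁻¹ = z := by group
    rwa [e] at this

theorem omegaCenter_ne_bot {G : Type*} [Group G] [Finite G] {P : Subgroup G} {p : ℕ}
    (hp : p.Prime) (hP : IsPGroup p P) (hP1 : P ≠ ⊥) : ∃ z ∈ omegaCenter P p, z ≠ 1 := by
  have : Fact p.Prime := ⟨hp⟩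
  have : Nontrivial P := (Subgroup.nontrivial_iff_ne_bot P).mpr hP1
  have : Nontrivial (Subgroup.center P) := hP.center_nontrivial
  have hc : IsPGroup p (Subgroup.center P) := hP.to_subgroup _
  obtain ⟨n, hn⟩ := IsPGroup.iff_card.mp hc
  have hn0 : n ≠ 0 := by
    rintro rfl
    rw [pow_zero] at hn
    have := Finite.one_lt_card (α := Subgroup.center P)
    omega
  have hdvd : p ∣ Nat.card (Subgroup.center P) := by rw [hn]; exact dvd_pow_self p hn0
  obtain ⟨c, hc⟩ := exists_prime_orderOf_dvd_card' p hdvd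
  refine ⟨((c : P) : G), ⟨(c : P).2, ?_, ?_⟩, ?_⟩
  · intro w hw
    have := Subgroup.mem_center_iff.mp c.2 ⟨w, hw⟩
    exact congrArg Subtype.val this
  · have h1 : c ^ p = 1 := by rw [← hc]; exact pow_orderOf_eq_one c
    have h2 := congrArg (fun y : Subgroup.center P => ((y : P) : G)) h1
    simpa using h2
  · intro h
    have h1 : c = 1 := by
      apply Subtype.ext; apply Subtype.ext; simpa using h
    rw [h1, orderOf_one] at hc
    exact hp.one_lt.ne hc

/-- Conjugation action of the normalizer of `V` on `V`. -/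
def conjNormalizer {G : Type*} [Group G] (V : Subgroup G) : ↥(Subgroup.normalizer (V : Set G)) →* MulAut ↥V where
  toFun g :=
    { toFun := fun v => ⟨(g : G) * v * (g : G)⁻¹, (Subgroup.mem_normalizer_iff.mp g.2 v).mp v.2⟩
      invFun := fun v => ⟨(g : G)⁻¹ * v * (g : G), by
        have := (Subgroup.mem_normalizer_iff.mp ((Subgroup.normalizer (V : Set G)).inv_mem g.2) v).mp v.2
        simpa using this⟩
      left_inv := fun v => by ext; simp [mul_assoc]
      right_inv := fun v => by ext; simp [mul_assoc]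
      map_mul' := fun v w => by ext; simp [mul_assoc] }
  map_one' := by ext v; simp
  map_mul' g h := by ext v; simp [mul_assoc]

theorem conjNormalizer_apply {G : Type*} [Group G] (V : Subgroup G) (g : ↥(Subgroup.normalizer (V : Set G))) (v : ↥V) :
    ((conjNormalizer V g v : ↥V) : G) = (g : G) * v * (g : G)⁻¹ := rfl

theorem exists_order_mul_of_commute {G : Type*} [Group G] {p q : ℕ} (hp : p.Prime) (hq : q.Prime)
    (hpq : p ≠ q) {v y : G} (hv : orderOf v = p) (hy : ∃ k, orderOf y = q ^ k) (hy1 : y ≠ 1)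
    (hc : Commute y v) : ∃ g : G, orderOf g = p * q := by
  obtain ⟨k, hk⟩ := hy
  have hk0 : k ≠ 0 := by
    rintro rfl
    rw [pow_zero, orderOf_eq_one_iff] at hk
    exact hy1 hk
  have hqd : q ∣ orderOf y := by rw [hk]; exact dvd_pow_self q hk0
  have h0 : orderOf y ≠ 0 := by rw [hk]; exact pow_ne_zero _ hq.ne_zero
  have h1 : orderOf (y ^ (orderOf y / q)) = q := orderOf_pow_orderOf_div h0 hqd
  refine ⟨v * y ^ (orderOf y / q), ?_⟩
  rw [Commute.orderOf_mul_eq_mul_orderOf_of_coprime, hv, h1]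
  · exact (hc.pow_left _).symm
  · rw [hv, h1]; exact (Nat.coprime_primes hp hq).mpr hpq

/-- The tower lemma: a `p`-group `P`, a `q`-group `Q` normalizing it and an element `x` of order
`r` normalizing both force two of the three primes to be adjacent in the prime graph. -/
theorem exists_adjacent_of_tower {G : Type*} [Group G] [Finite G] {p q r : ℕ}
    (hp : p.Prime) (hq : q.Prime) (hr : r.Prime) (hpq : p ≠ q) (hpr : p ≠ r) (hqr : q ≠ r)
    (P Q : Subgroup G) (x : G) (hP : IsPGroup p P) (hP1 : P ≠ ⊥) (hQ : IsPGroup q Q) (hQ1 : Q ≠ ⊥)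
    (hx : orderOf x = r) (hQP : Q ≤ (Subgroup.normalizer (P : Set G))) (hxP : x ∈ (Subgroup.normalizer (P : Set G)))
    (hxQ : x ∈ (Subgroup.normalizer (Q : Set G))) :
    (∃ g : G, orderOf g = p * q) ∨ (∃ g : G, orderOf g = p * r) ∨ (∃ g : G, orderOf g = q * r) := by
  classical
  by_contra hcon
  push Not at hcon
  obtain ⟨hpq', hpr', hqr'⟩ := hcon
  have : Fact p.Prime := ⟨hp⟩
  have : Fact q.Prime := ⟨hq⟩
  have : Fact r.Prime := ⟨hr⟩
  set V := omegaCenter P p with hV
  set Z := omegaCenter Q q with hZ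
  obtain ⟨v₀, hv₀, hv₀1⟩ := omegaCenter_ne_bot hp hP hP1
  obtain ⟨z₀, hz₀, hz₀1⟩ := omegaCenter_ne_bot hq hQ hQ1
  have hZQ : Z ≤ Q := omegaCenter_le Q q
  have hNV : (Subgroup.normalizer (P : Set G)) ≤ (Subgroup.normalizer (V : Set G)) := normalizer_le_normalizer_omegaCenter P p
  have hNZ : (Subgroup.normalizer (Q : Set G)) ≤ (Subgroup.normalizer (Z : Set G)) := normalizer_le_normalizer_omegaCenter Q q
  have hVord : ∀ v ∈ V, v ≠ 1 → orderOf v = p := fun v hv hv1 =>
    orderOf_eq_prime (omegaCenter_pow P p v hv) hv1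
  have hZord : ∀ z ∈ Z, z ≠ 1 → orderOf z = q := fun z hz hz1 =>
    orderOf_eq_prime (omegaCenter_pow Q q z hz) hz1
  have hA : ∀ y ∈ Q, y ≠ 1 → ∀ v ∈ V, Commute y v → v = 1 := by
    intro y hy hy1 v hv hc
    by_contra hv1
    have hyo : ∃ k, orderOf y = q ^ k := by
      obtain ⟨k, hk⟩ := IsPGroup.iff_orderOf.mp hQ ⟨y, hy⟩
      exact ⟨k, by rw [← hk, Subgroup.orderOf_mk]⟩
    obtain ⟨g, hg⟩ := exists_order_mul_of_commute hp hq hpq (hVord v hv hv1) hyo hy1 hc
    exact hpq' g hg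
  have hC : ∀ z ∈ Z, Commute x z → z = 1 := by
    intro z hz hc
    by_contra hz1
    have : orderOf (z * x) = q * r := by
      rw [hc.symm.orderOf_mul_eq_mul_orderOf_of_coprime, hZord z hz hz1, hx]
      rw [hZord z hz hz1, hx]; exact (Nat.coprime_primes hq hr).mpr hqr
    exact hqr' _ this
  have h3 : ∀ z ∈ Z, x⁻¹ * z * x ∈ Z := by
    intro z hz
    have := (Subgroup.mem_normalizer_iff.mp ((Subgroup.normalizer (Z : Set G)).inv_mem (hNZ hxQ)) z).mp hz
    simpa using this
  have hxr : x ^ r = 1 := by rw [← hx]; exact pow_orderOf_eq_one x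
  have h2 : ∀ z ∈ Z, (x * z) ^ r = 1 := by
    intro z hz
    have hmem : (x * z) ^ r ∈ Z := by
      have := inv_pow_mul_pow_mem Z x h3 z hz r
      simpa [hxr] using this
    apply hC _ hmem
    have c1 : Commute ((x * z) ^ r) (x * z) := (Commute.refl (x * z)).pow_left r
    have c2 : Commute ((x * z) ^ r) z := omegaCenter_comm Q q _ hmem _ hz
    have c3 : Commute ((x * z) ^ r) (x * z * z⁻¹) := c1.mul_right c2.inv_right
    have e : x * z * z⁻¹ = x := by group
    rw [e] at c3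
    exact c3.symm
  have hxz1 : ∀ z ∈ Z, x * z ≠ 1 := by
    intro z hz h
    have hxZ : x ∈ Z := by
      have : x = z⁻¹ := eq_inv_of_mul_eq_one_left h
      rw [this]; exact Z.inv_mem hz
    have : x ^ q = 1 := omegaCenter_pow Q q x hxZ
    have hdvd : r ∣ q := by rw [← hx]; exact orderOf_dvd_of_pow_eq_one this
    exact hqr ((Nat.prime_dvd_prime_iff_eq hr hq).mp hdvd).symm
  have h4 : ∀ z ∈ Z, ∀ v ∈ V, Commute (x * z) v → v = 1 := by
    intro z hz v hv hc
    by_contra hv1
    have ho : orderOf (x * z) = r := orderOf_eq_prime (h2 z hz) (hxz1 z hz)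
    have : orderOf (v * (x * z)) = p * r := by
      rw [hc.symm.orderOf_mul_eq_mul_orderOf_of_coprime, hVord v hv hv1, ho]
      rw [hVord v hv hv1, ho]; exact (Nat.coprime_primes hp hr).mpr hpr
    exact hpr' _ this
  have hZN : Z ≤ (Subgroup.normalizer (V : Set G)) := hZQ.trans (hQP.trans hNV)
  have hxN : x ∈ (Subgroup.normalizer (V : Set G)) := hNV hxP
  letI : CommGroup ↥V :=
    { (inferInstance : Group ↥V) with
      mul_comm := fun a b => Subtype.ext (omegaCenter_comm P p a a.2 b b.2) }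
  have hcomm : ∀ (g : ↥(Subgroup.normalizer (V : Set G))) (v : ↥V), conjNormalizer V g v = v → Commute (g : G) (v : G) := by
    intro g v h
    have h' := congrArg Subtype.val h
    rw [conjNormalizer_apply] at h'
    exact mul_inv_eq_iff_eq_mul.mp h'
  have main := fpf_frobenius_pow_card (conjNormalizer V) (Z.subgroupOf (Subgroup.normalizer (V : Set G))) ⟨x, hxN⟩ r hr
    ⟨⟨z₀, hZN hz₀⟩, Subgroup.mem_subgroupOf.mpr hz₀, fun h => hz₀1 (congrArg Subtype.val h)⟩
    (by
      intro z hz hz1 v hv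
      have hzZ : (z : G) ∈ Z := Subgroup.mem_subgroupOf.mp hz
      have := hA (z : G) (hZQ hzZ) (fun h => hz1 (Subtype.ext h)) (v : G) v.2 (hcomm z v hv)
      exact Subtype.ext this)
    (by
      intro z hz
      have hzZ : (z : G) ∈ Z := Subgroup.mem_subgroupOf.mp hz
      apply Subtype.ext
      simpa using h2 (z : G) hzZ)
    (by
      intro z hz
      have hzZ : (z : G) ∈ Z := Subgroup.mem_subgroupOf.mp hz
      rw [Subgroup.mem_subgroupOf]
      simpa using h3 (z : G) hzZ)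
    (by
      intro z hz v hv
      have hzZ : (z : G) ∈ Z := Subgroup.mem_subgroupOf.mp hz
      have := h4 (z : G) hzZ (v : G) v.2 (by simpa using hcomm _ v hv)
      exact Subtype.ext this)
  have hZp : IsPGroup q ↥(Z.subgroupOf (Subgroup.normalizer (V : Set G))) := by
    intro z
    refine ⟨1, ?_⟩
    apply Subtype.ext
    apply Subtype.ext
    simpa using omegaCenter_pow Q q (z : G) (Subgroup.mem_subgroupOf.mp z.2)
  obtain ⟨n, hn⟩ := IsPGroup.iff_card.mp hZp
  have hv₀' := main ⟨v₀, hv₀⟩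
  have h5 : v₀ ^ (q ^ n) = 1 := by
    rw [hn] at hv₀'
    simpa using congrArg Subtype.val hv₀'
  have h6 : orderOf v₀ ∣ q ^ n := orderOf_dvd_of_pow_eq_one h5
  rw [hVord v₀ hv₀ hv₀1] at h6
  exact hpq ((Nat.prime_dvd_prime_iff_eq hp hq).mp (hp.dvd_of_dvd_pow h6))

theorem card_div_card_eq_relIndex {G : Type*} [Group G] [Finite G] {K M : Subgroup G}
    (hKM : K ≤ M) : Nat.card ↥M / Nat.card ↥K = K.relIndex M := by
  have h1 := Subgroup.card_mul_index (K.subgroupOf M)
  have h2 : Nat.card ↥(K.subgroupOf M) = Nat.card ↥K :=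
    Nat.card_congr (Subgroup.subgroupOfEquivOfLe hKM).toEquiv
  rw [h2] at h1
  have h3 : K.relIndex M = (K.subgroupOf M).index := rfl
  rw [h3, ← h1, Nat.mul_div_cancel_left _ Nat.card_pos]

theorem card_div_card_eq_index {G : Type*} [Group G] [Finite G] (M : Subgroup G) :
    Nat.card G / Nat.card ↥M = M.index := by
  rw [← Subgroup.card_mul_index M, Nat.mul_div_cancel_left _ Nat.card_pos]

/-- Three primes spread over a normal chain `1 ≤ K ≤ M ≤ G` are not pairwise non-adjacent. -/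
theorem exists_adjacent_of_chain {G : Type*} [Group G] [Finite G] (K M : Subgroup G) [K.Normal]
    [M.Normal] (hKM : K ≤ M) {p q r : ℕ} (hp : p.Prime) (hq : q.Prime) (hr : r.Prime)
    (hpq : p ≠ q) (hpr : p ≠ r) (hqr : q ≠ r)
    (hpK : p ∣ Nat.card ↥K) (hqM : q ∣ K.relIndex M) (hrG : r ∣ M.index) :
    (∃ x : G, orderOf x = p * q) ∨ (∃ x : G, orderOf x = p * r) ∨ (∃ x : G, orderOf x = q * r) := by
  classical
  have : Fact p.Prime := ⟨hp⟩
  have : Fact q.Prime := ⟨hq⟩
  have : Fact r.Prime := ⟨hr⟩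
  obtain ⟨P⟩ : Nonempty (Sylow p K) := inferInstance
  set P' : Subgroup G := (P : Subgroup K).map K.subtype with hP'
  have hfr : Subgroup.normalizer (P' : Set G) ⊔ K = ⊤ := Sylow.normalizer_sup_eq_top P
  set N1 : Subgroup G := Subgroup.normalizer (P' : Set G) with hN1
  have hP'p : IsPGroup p P' := P.isPGroup'.map K.subtype
  have hP'1 : P' ≠ ⊥ := by
    intro h
    rw [hP', Subgroup.map_eq_bot_iff_of_injective _ K.subtype_injective] at h
    exact P.ne_bot_of_dvd_card hpK h
  have hK1 : K.relIndex N1 = K.index := by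
    rw [← Subgroup.relIndex_sup_right (H := N1) (K := K), hfr, Subgroup.relIndex_top_right]
  have hfrM : N1 ⊔ M = ⊤ := by
    apply top_le_iff.mp
    rw [← hfr]
    exact sup_le_sup_left hKM N1
  have hM1 : M.relIndex N1 = M.index := by
    rw [← Subgroup.relIndex_sup_right (H := N1) (K := M), hfrM, Subgroup.relIndex_top_right]
  set K1 : Subgroup ↥N1 := K.subgroupOf N1 with hK1def
  set M1 : Subgroup ↥N1 := M.subgroupOf N1 with hM1def
  have hM1idx : M1.index = M.index := hM1
  have hK1idx : K1.index = K.index := hK1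
  have hcardM1 : Nat.card ↥M1 = Nat.card ↥K1 * K.relIndex M := by
    have e1 := Subgroup.card_mul_index M1
    have e2 := Subgroup.card_mul_index K1
    rw [hM1idx] at e1
    rw [hK1idx, ← Subgroup.relIndex_mul_index hKM, ← mul_assoc] at e2
    have e3 : Nat.card ↥M1 * M.index = Nat.card ↥K1 * K.relIndex M * M.index := by rw [e1, e2]
    exact Nat.eq_of_mul_eq_mul_right (Nat.pos_of_ne_zero Subgroup.index_ne_zero_of_finite) e3
  have hqM1 : q ∣ Nat.card ↥M1 := by rw [hcardM1]; exact Dvd.dvd.mul_left hqM _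
  obtain ⟨Q1⟩ : Nonempty (Sylow q M1) := inferInstance
  set Q' : Subgroup ↥N1 := (Q1 : Subgroup M1).map M1.subtype with hQ'
  have hfr2 : Subgroup.normalizer (Q' : Set ↥N1) ⊔ M1 = ⊤ := Sylow.normalizer_sup_eq_top Q1
  set N2 : Subgroup ↥N1 := Subgroup.normalizer (Q' : Set ↥N1) with hN2
  have hM1N2 : M1.relIndex N2 = M1.index := by
    rw [← Subgroup.relIndex_sup_right (H := N2) (K := M1), hfr2, Subgroup.relIndex_top_right]
  have hrN2 : r ∣ Nat.card ↥N2 := by
    have : r ∣ M1.relIndex N2 := by rw [hM1N2, hM1idx]; exact hrG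
    exact this.trans (Subgroup.relIndex_dvd_card M1 N2)
  obtain ⟨x, hx⟩ := exists_prime_orderOf_dvd_card' r hrN2
  have hQ'p : IsPGroup q Q' := Q1.isPGroup'.map M1.subtype
  have hQ'1 : Q' ≠ ⊥ := by
    intro h
    rw [hQ', Subgroup.map_eq_bot_iff_of_injective _ M1.subtype_injective] at h
    exact Q1.ne_bot_of_dvd_card hqM1 h
  refine exists_adjacent_of_tower hp hq hr hpq hpr hqr P' (Q'.map N1.subtype) ((x : ↥N1) : G)
    hP'p hP'1 (hQ'p.map N1.subtype) ?_ ?_ ?_ ?_ ?_
  · intro h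
    rw [Subgroup.map_eq_bot_iff_of_injective _ N1.subtype_injective] at h
    exact hQ'1 h
  · rw [Subgroup.orderOf_coe, Subgroup.orderOf_coe, hx]
  · exact Subgroup.map_subtype_le Q'
  · exact (x : ↥N1).2
  · apply Subgroup.le_normalizer_map N1.subtype
    exact Subgroup.mem_map_of_mem N1.subtype x.2

theorem card_mul_relIndex_eq {G : Type*} [Group G] [Finite G] {B K : Subgroup G}
    (hBK : B ≤ K) : Nat.card ↥B * B.relIndex K = Nat.card ↥K := by
  have h1 := Subgroup.card_mul_index (B.subgroupOf K)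
  have h2 : Nat.card ↥(B.subgroupOf K) = Nat.card ↥B :=
    Nat.card_congr (Subgroup.subgroupOfEquivOfLe hBK).toEquiv
  rw [h2] at h1
  exact h1

theorem card_eq_card_map_mul {G : Type*} [Group G] [Finite G] (A : Subgroup G) [A.Normal]
    (H : Subgroup G) (hAH : A ≤ H) :
    Nat.card ↥H = Nat.card ↥(H.map (QuotientGroup.mk' A)) * Nat.card ↥A := by
  have h1 : (H.map (QuotientGroup.mk' A)).index = H.index :=
    Subgroup.index_map_eq H (QuotientGroup.mk'_surjective A) (by rw [QuotientGroup.ker_mk']; exact hAH)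
  have h2 := Subgroup.card_mul_index (H.map (QuotientGroup.mk' A))
  have h3 := Subgroup.card_mul_index A
  have h4 := Subgroup.card_mul_index H
  have h5 : Nat.card (G ⧸ A) = A.index := rfl
  rw [h1, h5] at h2
  have h6 : Nat.card ↥(H.map (QuotientGroup.mk' A)) * Nat.card ↥A * H.index
      = Nat.card ↥H * H.index := by
    rw [h4, ← h3, ← h2]; ring
  exact (Nat.eq_of_mul_eq_mul_right (Nat.pos_of_ne_zero Subgroup.index_ne_zero_of_finite) h6).symm

theorem exists_abelian_normal_le {G : Type*} [Group G] (K : Subgroup G) [K.Normal]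
    [hK : Group.IsSolvable ↥K] (hK1 : K ≠ ⊥) :
    ∃ A : Subgroup G, A.Normal ∧ A ≤ K ∧ A ≠ ⊥ ∧ ∀ a ∈ A, ∀ b ∈ A, a * b = b * a := by
  classical
  have hex := hK.solvable
  have hn := Nat.find_spec hex
  have hn0 : Nat.find hex ≠ 0 := by
    intro h0
    rw [h0, derivedSeries_zero] at hn
    apply hK1
    rw [Subgroup.eq_bot_iff_forall]
    intro k hk
    have h1 : (⟨k, hk⟩ : ↥K) ∈ (⊤ : Subgroup ↥K) := Subgroup.mem_top _
    rw [hn, Subgroup.mem_bot] at h1
    exact congrArg Subtype.val h1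
  obtain ⟨m, hm⟩ := Nat.exists_eq_succ_of_ne_zero hn0
  have hD : derivedSeries ↥K m ≠ ⊥ := Nat.find_min hex (by omega)
  rw [hm, derivedSeries_succ] at hn
  refine ⟨(derivedSeries ↥K m).map K.subtype, inferInstance, Subgroup.map_subtype_le _, ?_, ?_⟩
  · intro h
    rw [Subgroup.map_eq_bot_iff_of_injective _ K.subtype_injective] at h
    exact hD h
  · rintro _ ⟨a, ha, rfl⟩ _ ⟨b, hb, rfl⟩
    have h1 : ⁅a, b⁆ ∈ ⁅derivedSeries ↥K m, derivedSeries ↥K m⁆ :=
      Subgroup.commutator_mem_commutator ha hb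
    rw [hn, Subgroup.mem_bot, commutatorElement_eq_one_iff_mul_comm] at h1
    exact congrArg Subtype.val h1

theorem omegaCenter_normal {G : Type*} [Group G] (A : Subgroup G) [hA : A.Normal] (s : ℕ) :
    (omegaCenter A s).Normal := by
  apply (Subgroup.normalizer_eq_top_iff (H := omegaCenter A s)).mp
  apply top_le_iff.mp
  have h1 : Subgroup.normalizer (A : Set G) = ⊤ := Subgroup.normalizer_eq_top_iff.mpr hA
  rw [← h1]
  exact normalizer_le_normalizer_omegaCenter A s

theorem split_of_dvd_abelian {G : Type*} [Group G] [Finite G] (K A : Subgroup G) [A.Normal]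
    (hAK : A ≤ K) (hAc : ∀ a ∈ A, ∀ b ∈ A, a * b = b * a) {s t : ℕ} (hs : s.Prime) (ht : t.Prime)
    (hst : s ≠ t) (hsA : s ∣ Nat.card ↥A) (htK : t ∣ Nat.card ↥K) :
    ∃ B : Subgroup G, B.Normal ∧ B ≤ K ∧ s ∣ Nat.card ↥B ∧ t ∣ B.relIndex K := by
  have : Fact s.Prime := ⟨hs⟩
  have hBK : omegaCenter A s ≤ K := (omegaCenter_le A s).trans hAK
  refine ⟨omegaCenter A s, omegaCenter_normal A s, hBK, ?_, ?_⟩
  · obtain ⟨a, ha⟩ := exists_prime_orderOf_dvd_card' s hsA
    have hmem : (a : G) ∈ omegaCenter A s := by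
      refine ⟨a.2, fun w hw => hAc w hw a a.2, ?_⟩
      have h1 : a ^ s = 1 := by rw [← ha]; exact pow_orderOf_eq_one a
      simpa using congrArg Subtype.val h1
    have h2 : orderOf (⟨(a : G), hmem⟩ : ↥(omegaCenter A s)) = s := by
      rw [Subgroup.orderOf_mk, Subgroup.orderOf_coe, ha]
    have h3 := orderOf_dvd_natCard (⟨(a : G), hmem⟩ : ↥(omegaCenter A s))
    rw [h2] at h3
    exact h3
  · have hp : IsPGroup s ↥(omegaCenter A s) := by
      intro z
      refine ⟨1, ?_⟩
      apply Subtype.ext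
      simpa using omegaCenter_pow A s (z : G) z.2
    obtain ⟨n, hn⟩ := IsPGroup.iff_card.mp hp
    have h3 := card_mul_relIndex_eq hBK
    rw [← h3, hn] at htK
    rcases (Nat.Prime.dvd_mul ht).mp htK with h | h
    · exact absurd ((Nat.prime_dvd_prime_iff_eq ht hs).mp (ht.dvd_of_dvd_pow h)).symm hst
    · exact h

theorem exists_normal_split.{u} (n : ℕ) : ∀ {G : Type u} [Group G] [Finite G],
    Nat.card G = n → ∀ (K : Subgroup G) [K.Normal] [Group.IsSolvable ↥K] {s t : ℕ},
    s.Prime → t.Prime → s ≠ t → s ∣ Nat.card ↥K → t ∣ Nat.card ↥K →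
    ∃ B : Subgroup G, B.Normal ∧ B ≤ K ∧
      ((s ∣ Nat.card ↥B ∧ t ∣ B.relIndex K) ∨ (t ∣ Nat.card ↥B ∧ s ∣ B.relIndex K)) := by
  induction n using Nat.strong_induction_on with
  | _ n ih =>
    intro G _ _ hn K _ _ s t hs ht hst hsK htK
    have hK1 : K ≠ ⊥ := by
      rintro rfl
      rw [Subgroup.card_bot] at hsK
      exact hs.one_lt.ne' (Nat.dvd_one.mp hsK)
    obtain ⟨A, hAn, hAK, hA1, hAc⟩ := exists_abelian_normal_le K hK1
    by_cases hsA : s ∣ Nat.card ↥A
    · obtain ⟨B, h1, h2, h3, h4⟩ := split_of_dvd_abelian K A hAK hAc hs ht hst hsA htK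
      exact ⟨B, h1, h2, Or.inl ⟨h3, h4⟩⟩
    by_cases htA : t ∣ Nat.card ↥A
    · obtain ⟨B, h1, h2, h3, h4⟩ := split_of_dvd_abelian K A hAK hAc ht hs (Ne.symm hst) htA hsK
      exact ⟨B, h1, h2, Or.inr ⟨h3, h4⟩⟩
    have hcardK := card_eq_card_map_mul A K hAK
    have hsK' : s ∣ Nat.card ↥(K.map (QuotientGroup.mk' A)) := by
      rw [hcardK] at hsK
      exact ((Nat.Prime.dvd_mul hs).mp hsK).resolve_right hsA
    have htK' : t ∣ Nat.card ↥(K.map (QuotientGroup.mk' A)) := by
      rw [hcardK] at htK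
      exact ((Nat.Prime.dvd_mul ht).mp htK).resolve_right htA
    have hlt : Nat.card (G ⧸ A) < n := by
      have h3 := Subgroup.card_mul_index A
      have h5 : Nat.card (G ⧸ A) = A.index := rfl
      have h6 : 1 < Nat.card ↥A := A.one_lt_card_iff_ne_bot.mpr hA1
      have h7 : 0 < A.index := Nat.pos_of_ne_zero Subgroup.index_ne_zero_of_finite
      rw [h5, ← hn, ← h3]
      nlinarith
    have hKn' : (K.map (QuotientGroup.mk' A)).Normal :=
      Subgroup.Normal.map inferInstance _ (QuotientGroup.mk'_surjective A)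
    have hKs' : Group.IsSolvable ↥(K.map (QuotientGroup.mk' A)) :=
      Group.isSolvable_of_surjective
        (MonoidHom.subgroupMap_surjective (QuotientGroup.mk' A) K)
    obtain ⟨B', hB'n, hB'K', hB'⟩ :=
      ih (Nat.card (G ⧸ A)) hlt rfl (K.map (QuotientGroup.mk' A)) hs ht hst hsK' htK'
    have hBK : B'.comap (QuotientGroup.mk' A) ≤ K := by
      have h1 := Subgroup.comap_mono (f := QuotientGroup.mk' A) hB'K'
      rw [Subgroup.comap_map_eq, QuotientGroup.ker_mk', sup_of_le_left hAK] at h1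
      exact h1
    have hAB : A ≤ B'.comap (QuotientGroup.mk' A) := by
      have := Subgroup.ker_le_comap (QuotientGroup.mk' A) B'
      rwa [QuotientGroup.ker_mk'] at this
    have hcardB := card_eq_card_map_mul A (B'.comap (QuotientGroup.mk' A)) hAB
    rw [Subgroup.map_comap_eq_self_of_surjective (QuotientGroup.mk'_surjective A)] at hcardB
    have hrel := Subgroup.relIndex_comap (H := B') (QuotientGroup.mk' A) K
    refine ⟨B'.comap (QuotientGroup.mk' A), hB'n.comap _, hBK, ?_⟩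
    rw [hcardB, hrel]
    rcases hB' with ⟨h1, h2⟩ | ⟨h1, h2⟩
    · exact Or.inl ⟨Dvd.dvd.mul_right h1 _, h2⟩
    · exact Or.inr ⟨Dvd.dvd.mul_right h1 _, h2⟩

/-- Two of the three numbers are "adjacent": some element has order their product. -/
def Adj3 (G : Type*) [Group G] (a b c : ℕ) : Prop :=
  (∃ x : G, orderOf x = a * b) ∨ (∃ x : G, orderOf x = a * c) ∨ (∃ x : G, orderOf x = b * c)

theorem Adj3.swap12 {G : Type*} [Group G] {a b c : ℕ} (h : Adj3 G a b c) : Adj3 G b a c := by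
  rcases h with ⟨x, hx⟩ | ⟨x, hx⟩ | ⟨x, hx⟩
  · exact Or.inl ⟨x, by rw [hx, mul_comm]⟩
  · exact Or.inr (Or.inr ⟨x, hx⟩)
  · exact Or.inr (Or.inl ⟨x, hx⟩)

theorem Adj3.swap23 {G : Type*} [Group G] {a b c : ℕ} (h : Adj3 G a b c) : Adj3 G a c b := by
  rcases h with ⟨x, hx⟩ | ⟨x, hx⟩ | ⟨x, hx⟩
  · exact Or.inr (Or.inl ⟨x, hx⟩)
  · exact Or.inl ⟨x, hx⟩
  · exact Or.inr (Or.inr ⟨x, by rw [hx, mul_comm]⟩)

theorem adj3_of_split {G : Type*} [Group G] [Finite G] (K B : Subgroup G) [K.Normal] [B.Normal]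
    [Group.IsSolvable ↥K] (hBK : B ≤ K) {r s t : ℕ} (hr : r.Prime) (hs : s.Prime) (ht : t.Prime)
    (hrs : r ≠ s) (hrt : r ≠ t) (hst : s ≠ t) (h1 : r ∣ Nat.card ↥B) (h2 : s ∣ B.relIndex K)
    (htG : t ∣ Nat.card G) : Adj3 G r s t := by
  by_cases htI : t ∣ K.index
  · exact exists_adjacent_of_chain B K hBK hr hs ht hrs hrt hst h1 h2 htI
  have htK : t ∣ Nat.card ↥K := by
    rw [← Subgroup.card_mul_index K] at htG
    exact ((Nat.Prime.dvd_mul ht).mp htG).resolve_right htI
  have hsBidx : s ∣ B.index := by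
    rw [← Subgroup.relIndex_mul_index hBK]
    exact Dvd.dvd.mul_right h2 _
  have hKB := card_mul_relIndex_eq hBK
  rw [← hKB] at htK
  rcases (Nat.Prime.dvd_mul ht).mp htK with htB | htB
  · -- t divides |B|: split B
    have hBs : Group.IsSolvable ↥B :=
      Group.isSolvable_of_isSolvable_injective (Subgroup.inclusion_injective hBK)
    obtain ⟨C, hCn, hCB, hC⟩ := exists_normal_split _ rfl B hr ht hrt h1 htB
    rcases hC with ⟨c1, c2⟩ | ⟨c1, c2⟩
    · have h : Adj3 G r t s :=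
        exists_adjacent_of_chain C B hCB hr ht hs hrt hrs (Ne.symm hst) c1 c2 hsBidx
      exact h.swap23
    · have h : Adj3 G t r s :=
        exists_adjacent_of_chain C B hCB ht hr hs (Ne.symm hrt) (Ne.symm hst) hrs c1 c2 hsBidx
      exact h.swap12.swap23
  · -- t divides |K : B|: split K / B
    have hcardK := card_eq_card_map_mul B K hBK
    have hKB' : Nat.card ↥(K.map (QuotientGroup.mk' B)) = B.relIndex K := by
      have : Nat.card ↥(K.map (QuotientGroup.mk' B)) * Nat.card ↥B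
          = B.relIndex K * Nat.card ↥B := by rw [← hcardK, ← hKB, mul_comm]
      exact Nat.eq_of_mul_eq_mul_right Nat.card_pos this
    have hKn' : (K.map (QuotientGroup.mk' B)).Normal :=
      Subgroup.Normal.map inferInstance _ (QuotientGroup.mk'_surjective B)
    have hKs' : Group.IsSolvable ↥(K.map (QuotientGroup.mk' B)) :=
      Group.isSolvable_of_surjective
        (MonoidHom.subgroupMap_surjective (QuotientGroup.mk' B) K)
    obtain ⟨C', hC'n, hC'K', hC'⟩ := exists_normal_split _ rfl (K.map (QuotientGroup.mk' B))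
      hs ht hst (hKB' ▸ h2) (hKB' ▸ htB)
    have hCK : C'.comap (QuotientGroup.mk' B) ≤ K := by
      have e1 := Subgroup.comap_mono (f := QuotientGroup.mk' B) hC'K'
      rw [Subgroup.comap_map_eq, QuotientGroup.ker_mk', sup_of_le_left hBK] at e1
      exact e1
    have hBC : B ≤ C'.comap (QuotientGroup.mk' B) := by
      have := Subgroup.ker_le_comap (QuotientGroup.mk' B) C'
      rwa [QuotientGroup.ker_mk'] at this
    have hcardC := card_eq_card_map_mul B (C'.comap (QuotientGroup.mk' B)) hBC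
    rw [Subgroup.map_comap_eq_self_of_surjective (QuotientGroup.mk'_surjective B)] at hcardC
    have hBC' : B.relIndex (C'.comap (QuotientGroup.mk' B)) = Nat.card ↥C' := by
      have e2 := card_mul_relIndex_eq hBC
      have : B.relIndex (C'.comap (QuotientGroup.mk' B)) * Nat.card ↥B
          = Nat.card ↥C' * Nat.card ↥B := by rw [← hcardC, ← e2, mul_comm]
      exact Nat.eq_of_mul_eq_mul_right Nat.card_pos this
    have hrel := Subgroup.relIndex_comap (H := C') (QuotientGroup.mk' B) K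
    have hCidx : (C'.comap (QuotientGroup.mk' B)).relIndex K ∣ (C'.comap (QuotientGroup.mk' B)).index := by
      rw [← Subgroup.relIndex_mul_index hCK]
      exact Dvd.intro _ rfl
    have hCn : (C'.comap (QuotientGroup.mk' B)).Normal := hC'n.comap _
    rcases hC' with ⟨c1, c2⟩ | ⟨c1, c2⟩
    · exact exists_adjacent_of_chain B (C'.comap (QuotientGroup.mk' B)) hBC hr hs ht hrs hrt hst
        h1 (hBC' ▸ c1) ((hrel ▸ c2).trans hCidx)
    · have h : Adj3 G r t s :=
        exists_adjacent_of_chain B (C'.comap (QuotientGroup.mk' B)) hBC hr ht hs hrt hrs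
          (Ne.symm hst) h1 (hBC' ▸ c1) ((hrel ▸ c2).trans hCidx)
      exact h.swap23

/-- Two primes dividing the order of a solvable normal subgroup and a third prime dividing the
group order are never pairwise non-adjacent. -/
theorem adj3_of_solvable_normal {G : Type*} [Group G] [Finite G] (K : Subgroup G) [K.Normal]
    [Group.IsSolvable ↥K] {r s t : ℕ} (hr : r.Prime) (hs : s.Prime) (ht : t.Prime)
    (hrs : r ≠ s) (hrt : r ≠ t) (hst : s ≠ t) (hrK : r ∣ Nat.card ↥K) (hsK : s ∣ Nat.card ↥K)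
    (htG : t ∣ Nat.card G) : Adj3 G r s t := by
  obtain ⟨B, hBn, hBK, hB⟩ := exists_normal_split _ rfl K hr hs hrs hrK hsK
  rcases hB with ⟨h1, h2⟩ | ⟨h1, h2⟩
  · exact adj3_of_split K B hBK hr hs ht hrs hrt hst h1 h2 htG
  · exact (adj3_of_split K B hBK hs hr ht (Ne.symm hrs) hst hrt h1 h2 htG).swap12

end Cfsg.Agent.Lib.Helper65
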