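import Mathlib
import Cfsg.Prelude.Def_GeometricClasses
import Cfsg.Prelude.Def_LieClassical
import Cfsg.Agent.Lib.Helper71.Asch0
import Cfsg.Agent.Lib.Helper65.SP4CPLANE

/-! Project SP12 (helper65; S5868): piece `HALF` (filled by helper91; generalisation of
`SP4CPLANE`, whose auxiliary lemmas `PLANE_compl`, `PLANE_map_eq` are reused). -/

set_option autoImplicit false

namespace Cfsg.Agent.Lib.Helper65.SP12

open Matrix Cfsg.Geo Cfsg.Agent.Lib.Helper71.Asch
open scoped Kronecker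

variable {n : ℕ} {F : Type*} [Field F] [Fintype F]

/-- HALF -/
theorem HALF (f : (Fin n → F) → (Fin n → F) → F) (hf : IsSymplecticForm f)
    (H : Subgroup (GL (Fin n) F)) (hfix : FixesForm (matrixSet H) f)
    (W : Submodule F (Fin n → F)) (h0 : W ≠ ⊥) (hnd : IsNondegenerateOn f W) (m : ℕ)
    (hm : Module.finrank F W = m) (hn : n = 2 * m) (hle : H ≤ subspaceStabilizer W) :
    ∃ D : Fin 2 → Submodule F (Fin n → F), IsNondegenerateMDecomposition f m D ∧
      H ≤ decompositionStabilizer D := by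
  classical
  obtain ⟨W', hW', hcompl⟩ := Cfsg.Agent.Lib.Helper65.SP4C.PLANE_compl f hf W hnd
  have hmpos : 0 < m := by
    rw [← hm]
    apply Nat.pos_of_ne_zero
    intro h
    exact h0 (Submodule.finrank_eq_zero.1 h)
  have hsum : Module.finrank F W + Module.finrank F W' = n := by
    have h := Submodule.finrank_add_eq_of_isCompl hcompl
    rw [Module.finrank_fin_fun] at h
    exact h
  have hW'm : Module.finrank F W' = m := by omega
  have hnd' : IsNondegenerateOn f W' := by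
    intro v hv hv0
    obtain ⟨⟨x, hx⟩, _⟩ := hf.nondegenerate v hv0
    have hxtop : x ∈ W ⊔ W' := by rw [hcompl.sup_eq_top]; exact Submodule.mem_top
    obtain ⟨w, hw, w', hw', rfl⟩ := Submodule.mem_sup.1 hxtop
    have h1 : f w v = 0 := (hW' v).1 hv w hw
    have h2 : f w' v ≠ 0 := by
      intro h
      apply hx
      rw [hf.bilinear.add_left, h1, h, add_zero]
    refine ⟨⟨w', hw', h2⟩, ⟨w', hw', ?_⟩⟩
    rw [hf.skew]
    exact neg_ne_zero.2 h2
  -- stability
  have hgW : ∀ g ∈ H, ∀ v ∈ W, (g : Matrix (Fin n) (Fin n) F) *ᵥ v ∈ W := by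
    intro g hg v hv
    have h : ∀ v, v ∈ W ↔ (g : Matrix (Fin n) (Fin n) F) *ᵥ v ∈ W := hle hg
    exact (h v).1 hv
  have hgW' : ∀ g ∈ H, ∀ v ∈ W', (g : Matrix (Fin n) (Fin n) F) *ᵥ v ∈ W' := by
    intro g hg v hv
    rw [hW']
    intro w hw
    have h1 : ((g⁻¹ : GL (Fin n) F) : Matrix (Fin n) (Fin n) F) *ᵥ w ∈ W :=
      hgW g⁻¹ (H.inv_mem hg) w hw
    have h2 : (g : Matrix (Fin n) (Fin n) F) *ᵥ
        (((g⁻¹ : GL (Fin n) F) : Matrix (Fin n) (Fin n) F) *ᵥ w) = w := by
      rw [Matrix.mulVec_mulVec, ← Units.val_mul, mul_inv_cancel, Units.val_one,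
        Matrix.one_mulVec]
    have h3 := hfix (g : Matrix (Fin n) (Fin n) F) ⟨g, hg, rfl⟩
      (((g⁻¹ : GL (Fin n) F) : Matrix (Fin n) (Fin n) F) *ᵥ w) v
    rw [h2] at h3
    rw [h3]
    exact (hW' v).1 hv _ h1
  refine ⟨![W, W'], ⟨⟨le_refl 2, hmpos, ?_, ?_, ?_⟩, ?_, ?_⟩, ?_⟩
  · intro i
    fin_cases i
    · exact hm
    · exact hW'm
  · rw [iSupIndep_pair (i := (0 : Fin 2)) (j := (1 : Fin 2)) (by decide)
      (by intro k; fin_cases k <;> simp)]
    exact hcompl.disjoint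
  · apply le_antisymm le_top
    rw [← hcompl.sup_eq_top]
    exact sup_le (le_iSup ![W, W'] 0) (le_iSup ![W, W'] 1)
  · intro i
    fin_cases i
    · exact hnd
    · exact hnd'
  · intro i j hij
    fin_cases i <;> fin_cases j
    · exact absurd rfl hij
    · intro u hu v hv
      exact (hW' v).1 hv u hu
    · intro u hu v hv
      rw [hf.skew]
      rw [(hW' u).1 hu v hv, neg_zero]
    · exact absurd rfl hij
  · intro g hg
    refine ⟨1, fun i => ?_⟩
    fin_cases i
    · exact Cfsg.Agent.Lib.Helper65.SP4C.PLANE_map_eq H W hgW g hg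
    · exact Cfsg.Agent.Lib.Helper65.SP4C.PLANE_map_eq H W' hgW' g hg

end Cfsg.Agent.Lib.Helper65.SP12
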