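import Mathlib
import Cfsg.Prelude.Def_GeometricClasses
import Cfsg.Agent.Lib.Helper84.SP4OE2SDefs
import Cfsg.Agent.Lib.Helper65.SLCGen2

/-! Project SP4O (helper54; S5787), piece `E2S_card` (helper65): the standard group
`R0 = 2^(1+4)_-` has order 32 (commutators are `±1`, then `PC6dim`: `|R0| = 4² · |Z(R0)|`). -/

set_option autoImplicit false

namespace Cfsg.Agent.Lib.Helper54.SP4O

open Matrix Cfsg.Geo

variable {F : Type*} [Field F] [Fintype F]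

/-- two matrices commute up to sign -/
def E2SCARD_Cm (A B : Matrix (Fin 4) (Fin 4) F) : Prop := A * B = B * A ∨ A * B = -(B * A)

omit [Fintype F] in
theorem E2SCARD_Cm_symm {A B : Matrix (Fin 4) (Fin 4) F} (h : E2SCARD_Cm A B) :
    E2SCARD_Cm B A := by
  rcases h with h | h
  · exact Or.inl h.symm
  · right
    rw [h, neg_neg]

omit [Fintype F] in
theorem E2SCARD_Cm_mul {A B C : Matrix (Fin 4) (Fin 4) F} (h1 : E2SCARD_Cm A C)
    (h2 : E2SCARD_Cm B C) : E2SCARD_Cm (A * B) C := by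
  rcases h1 with h1 | h1 <;> rcases h2 with h2 | h2
  · left
    rw [Matrix.mul_assoc, h2, ← Matrix.mul_assoc, h1, Matrix.mul_assoc]
  · right
    rw [Matrix.mul_assoc, h2, Matrix.mul_neg, ← Matrix.mul_assoc, h1, Matrix.mul_assoc]
  · right
    rw [Matrix.mul_assoc, h2, ← Matrix.mul_assoc, h1, Matrix.neg_mul, Matrix.mul_assoc]
  · left
    rw [Matrix.mul_assoc, h2, Matrix.mul_neg, ← Matrix.mul_assoc, h1, Matrix.neg_mul, neg_neg,
      Matrix.mul_assoc]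

omit [Fintype F] in
theorem E2SCARD_Cm_one (C : Matrix (Fin 4) (Fin 4) F) : E2SCARD_Cm 1 C :=
  Or.inl (by rw [Matrix.one_mul, Matrix.mul_one])

omit [Fintype F] in
theorem E2SCARD_Cm_inv (a : GL (Fin 4) F) (C : Matrix (Fin 4) (Fin 4) F)
    (h : E2SCARD_Cm a.1 C) : E2SCARD_Cm (a⁻¹ : GL (Fin 4) F).1 C := by
  have h1 : (a⁻¹ : GL (Fin 4) F).1 * a.1 = 1 := by
    rw [← Units.val_mul, inv_mul_cancel, Units.val_one]
  have h2 : a.1 * (a⁻¹ : GL (Fin 4) F).1 = 1 := by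
    rw [← Units.val_mul, mul_inv_cancel, Units.val_one]
  rcases h with h | h
  · left
    calc (a⁻¹ : GL (Fin 4) F).1 * C
        = (a⁻¹ : GL (Fin 4) F).1 * C * (a.1 * (a⁻¹ : GL (Fin 4) F).1) := by
          rw [h2, Matrix.mul_one]
      _ = (a⁻¹ : GL (Fin 4) F).1 * (C * a.1) * (a⁻¹ : GL (Fin 4) F).1 := by
          simp only [Matrix.mul_assoc]
      _ = (a⁻¹ : GL (Fin 4) F).1 * (a.1 * C) * (a⁻¹ : GL (Fin 4) F).1 := by rw [h]
      _ = ((a⁻¹ : GL (Fin 4) F).1 * a.1) * C * (a⁻¹ : GL (Fin 4) F).1 := by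
          simp only [Matrix.mul_assoc]
      _ = C * (a⁻¹ : GL (Fin 4) F).1 := by rw [h1, Matrix.one_mul]
  · right
    have h' : C * a.1 = -(a.1 * C) := by rw [h, neg_neg]
    calc (a⁻¹ : GL (Fin 4) F).1 * C
        = (a⁻¹ : GL (Fin 4) F).1 * C * (a.1 * (a⁻¹ : GL (Fin 4) F).1) := by
          rw [h2, Matrix.mul_one]
      _ = (a⁻¹ : GL (Fin 4) F).1 * (C * a.1) * (a⁻¹ : GL (Fin 4) F).1 := by
          simp only [Matrix.mul_assoc]
      _ = (a⁻¹ : GL (Fin 4) F).1 * (-(a.1 * C)) * (a⁻¹ : GL (Fin 4) F).1 := by rw [h']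
      _ = -(((a⁻¹ : GL (Fin 4) F).1 * a.1) * C * (a⁻¹ : GL (Fin 4) F).1) := by
          simp only [Matrix.mul_neg, Matrix.neg_mul, Matrix.mul_assoc]
      _ = -(C * (a⁻¹ : GL (Fin 4) F).1) := by rw [h1, Matrix.one_mul]

set_option maxHeartbeats 4000000 in
omit [Fintype F] in
/-- the generators commute up to sign -/
theorem E2SCARD_gen (A B : Matrix (Fin 4) (Fin 4) F)
    (hA : A = E2Sg1 F ∨ A = E2Sg2 F ∨ A = E2Sg3 F ∨ A = E2Sg4 F)
    (hB : B = E2Sg1 F ∨ B = E2Sg2 F ∨ B = E2Sg3 F ∨ B = E2Sg4 F) : E2SCARD_Cm A B := by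
  rcases hA with rfl | rfl | rfl | rfl <;> rcases hB with rfl | rfl | rfl | rfl <;>
    first
    | (left
       ext i j
       (fin_cases i <;> fin_cases j <;>
         simp [E2Sg1, E2Sg2, E2Sg3, E2Sg4, Matrix.mul_apply, Fin.sum_univ_four])
       done)
    | (right
       ext i j
       (fin_cases i <;> fin_cases j <;>
         simp [E2Sg1, E2Sg2, E2Sg3, E2Sg4, Matrix.mul_apply, Fin.sum_univ_four])
       done)

omit [Fintype F] in
/-- any two elements of `R0` commute up to sign -/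
theorem E2SCARD_all (x y : GL (Fin 4) F) (hx : x ∈ E2SR0 F) (hy : y ∈ E2SR0 F) :
    E2SCARD_Cm x.1 y.1 := by
  have key : ∀ C : Matrix (Fin 4) (Fin 4) F,
      (C = E2Sg1 F ∨ C = E2Sg2 F ∨ C = E2Sg3 F ∨ C = E2Sg4 F) →
      ∀ z ∈ E2SR0 F, E2SCARD_Cm z.1 C := by
    intro C hC z hz
    unfold E2SR0 at hz
    induction hz using Subgroup.closure_induction with
    | mem w hw => exact E2SCARD_gen w.1 C hw hC
    | one => rw [Units.val_one]; exact E2SCARD_Cm_one C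
    | mul a b _ _ ha hb => rw [Units.val_mul]; exact E2SCARD_Cm_mul ha hb
    | inv a _ ha => exact E2SCARD_Cm_inv a C ha
  unfold E2SR0 at hy
  induction hy using Subgroup.closure_induction with
  | mem w hw => exact key w.1 hw x hx
  | one => rw [Units.val_one]; exact E2SCARD_Cm_symm (E2SCARD_Cm_one _)
  | mul a b _ _ ha hb =>
    rw [Units.val_mul]
    exact E2SCARD_Cm_symm (E2SCARD_Cm_mul (E2SCARD_Cm_symm ha) (E2SCARD_Cm_symm hb))
  | inv a _ ha => exact E2SCARD_Cm_symm (E2SCARD_Cm_inv a _ (E2SCARD_Cm_symm ha))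

omit [Fintype F] in
/-- commutators in `R0` are central -/
theorem E2SCARD_comm (x y : E2SR0 F) : x * y * x⁻¹ * y⁻¹ ∈ Subgroup.center (E2SR0 F) := by
  have hx1 : x.1.1 * (x.1⁻¹ : GL (Fin 4) F).1 = 1 := by
    rw [← Units.val_mul, mul_inv_cancel, Units.val_one]
  have hy1 : y.1.1 * (y.1⁻¹ : GL (Fin 4) F).1 = 1 := by
    rw [← Units.val_mul, mul_inv_cancel, Units.val_one]
  have hc : x.1.1 * y.1.1 * (x.1⁻¹ : GL (Fin 4) F).1 * (y.1⁻¹ : GL (Fin 4) F).1 = 1 ∨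
      x.1.1 * y.1.1 * (x.1⁻¹ : GL (Fin 4) F).1 * (y.1⁻¹ : GL (Fin 4) F).1 = -1 := by
    rcases E2SCARD_all x.1 y.1 x.2 y.2 with h | h
    · left
      rw [h]
      calc y.1.1 * x.1.1 * (x.1⁻¹ : GL (Fin 4) F).1 * (y.1⁻¹ : GL (Fin 4) F).1
          = y.1.1 * (x.1.1 * (x.1⁻¹ : GL (Fin 4) F).1) * (y.1⁻¹ : GL (Fin 4) F).1 := by
            simp only [Matrix.mul_assoc]
        _ = 1 := by rw [hx1, Matrix.mul_one, hy1]
    · right
      rw [h]
      calc -(y.1.1 * x.1.1) * (x.1⁻¹ : GL (Fin 4) F).1 * (y.1⁻¹ : GL (Fin 4) F).1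
          = -(y.1.1 * (x.1.1 * (x.1⁻¹ : GL (Fin 4) F).1) * (y.1⁻¹ : GL (Fin 4) F).1) := by
            simp only [Matrix.neg_mul, Matrix.mul_assoc]
        _ = -1 := by rw [hx1, Matrix.mul_one, hy1]
  rw [Subgroup.mem_center_iff]
  intro g
  apply Subtype.ext
  apply Units.ext
  show g.1.1 * (x.1.1 * y.1.1 * (x.1⁻¹ : GL (Fin 4) F).1 * (y.1⁻¹ : GL (Fin 4) F).1) =
    (x.1.1 * y.1.1 * (x.1⁻¹ : GL (Fin 4) F).1 * (y.1⁻¹ : GL (Fin 4) F).1) * g.1.1
  rcases hc with hc | hc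
  · rw [hc, Matrix.mul_one, Matrix.one_mul]
  · rw [hc, Matrix.mul_neg, Matrix.neg_mul, Matrix.mul_one, Matrix.one_mul]

/-- CARD: `R0` has order 32. -/
theorem E2S_card (hq : Fintype.card F = 3)
    (hai : ActsAbsolutelyIrreducibly (matrixSet (E2SR0 F)))
    (hcen : Nat.card (Subgroup.center (E2SR0 F)) = 2) :
    Nat.card (E2SR0 F) = 32 := by
  have h := Cfsg.Agent.Lib.Helper65.SLCGen.PC6dim (by norm_num : 0 < 4) (E2SR0 F) hai
    (fun x y => E2SCARD_comm x y)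
  rw [hcen] at h
  rw [← h]
  norm_num

end Cfsg.Agent.Lib.Helper54.SP4O
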