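import Mathlib
import Cfsg.Agent.Lib.Helper4.TPDefs

/-! Project TP (S4033), piece CONJ (helper65). -/

set_option autoImplicit false

namespace Cfsg.Agent.Lib.Helper4.TP

universe u

theorem conj_helper65_mapB {G : Type u} [Group G] (B : Subgroup G) (hB : B.Normal) (h : G) :
    B.map (MulAut.conj h).toMonoidHom = B := by
  ext g
  constructor
  · rintro ⟨b, hb, rfl⟩
    exact hB.conj_mem b hb h
  · intro hg
    refine ⟨h⁻¹ * g * h, ?_, ?_⟩
    · have := hB.conj_mem g hg h⁻¹
      simpa using this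
    · show h * (h⁻¹ * g * h) * h⁻¹ = g
      group

theorem conj_helper65_mapC {G : Type u} [Group G] (x h : G) :
    (Cen x).map (MulAut.conj h).toMonoidHom = Cen (h * x * h⁻¹) := by
  ext g
  constructor
  · rintro ⟨c, hc0, rfl⟩
    have hc : c ∈ Cen x := hc0
    rw [Subgroup.mem_centralizer_iff] at hc ⊢
    intro y hy
    rw [Set.mem_singleton_iff] at hy
    subst hy
    have h1 := hc x (Set.mem_singleton x)
    show h * x * h⁻¹ * (h * c * h⁻¹) = h * c * h⁻¹ * (h * x * h⁻¹)
    calc h * x * h⁻¹ * (h * c * h⁻¹) = h * (x * c) * h⁻¹ := by group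
      _ = h * (c * x) * h⁻¹ := by rw [h1]
      _ = h * c * h⁻¹ * (h * x * h⁻¹) := by group
  · intro hg
    rw [Subgroup.mem_centralizer_iff] at hg
    have h1 := hg (h * x * h⁻¹) (Set.mem_singleton _)
    refine ⟨h⁻¹ * g * h, ?_, ?_⟩
    · show h⁻¹ * g * h ∈ Cen x
      rw [Subgroup.mem_centralizer_iff]
      intro y hy
      rw [Set.mem_singleton_iff] at hy
      subst hy
      calc y * (h⁻¹ * g * h) = h⁻¹ * (h * y * h⁻¹ * g) * h := by group
        _ = h⁻¹ * (g * (h * y * h⁻¹)) * h := by rw [h1]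
        _ = h⁻¹ * g * h * y := by group
    · show h * (h⁻¹ * g * h) * h⁻¹ = g
      group

theorem conj : ConjStmt.{u} := by
  intro G _ _ B hB x h
  have h1 := Subgroup.relIndex_map_map_of_injective (Cen x) B
    (f := (MulAut.conj h).toMonoidHom) (MulAut.conj h).injective
  rw [conj_helper65_mapB B hB h, conj_helper65_mapC x h] at h1
  exact h1

end Cfsg.Agent.Lib.Helper4.TP
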