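import Mathlib
import Cfsg.Agent.Lib.Helper4.TPDefs

/-! Project TP (S4033), piece ZB (helper65). -/

set_option autoImplicit false

namespace Cfsg.Agent.Lib.Helper4.TP

universe u

theorem zb : ZBStmt.{u} := by
  intro G _ _ p hp B hB hpB hne
  have : Fact p.Prime := ⟨hp⟩
  have : B.Normal := hB
  have : Nontrivial B := (Subgroup.nontrivial_iff_ne_bot B).2 hne
  have hpB' : IsPGroup p B := hpB
  have : Nontrivial (Subgroup.center B) := hpB'.center_nontrivial
  refine ⟨(Subgroup.center B).map B.subtype, ?_, ?_, ?_, ?_⟩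
  · exact ConjAct.normal_of_characteristic_of_normal
  · exact hpB.to_le (Subgroup.map_subtype_le _)
  · intro h
    rw [Subgroup.map_eq_bot_iff_of_injective _ B.subtype_injective] at h
    exact (Subgroup.nontrivial_iff_ne_bot _).1 inferInstance h
  · rintro u ⟨a, ha, rfl⟩ v ⟨b, hb, rfl⟩
    have := (Subgroup.mem_center_iff.1 ha) b
    have h2 := congrArg (B.subtype) this
    simpa using h2.symm

end Cfsg.Agent.Lib.Helper4.TP
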