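import Mathlib
import Cfsg.Prelude.Def_GeometricClasses
import Cfsg.Prelude.Def_LieClassical
import Cfsg.Agent.Lib.Helper71.Asch0
import Cfsg.Agent.Lib.Helper7.GUOrder

/-! Project U9 (helper44, S5832), piece SWAP (helper65): a swap element of `SU_9(q)` in the
stabiliser of the tensor square but outside the tensor product group. -/

set_option autoImplicit false

namespace Cfsg.Agent.Lib.Helper44.U9

open Matrix Cfsg.Geo Cfsg.Agent.Lib.Helper71.Asch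
open scoped Kronecker

variable {n : ℕ} {F : Type*} [Field F] [Fintype F] {q : ℕ}

/-- the ring homomorphism `x ↦ x ^ q` -/
def SWAP_sig (hF : Fintype.card F = q ^ 2) : F →+* F where
  toFun x := x ^ q
  map_one' := one_pow q
  map_mul' x y := mul_pow x y q
  map_zero' := zero_pow (Cfsg.Agent.Lib.Helper7.herm_q_ne_zero hF)
  map_add' x y := Cfsg.Agent.Lib.Helper7.herm_add_pow hF x y

theorem SWAP_sig_apply (hF : Fintype.card F = q ^ 2) (x : F) : SWAP_sig hF x = x ^ q := rfl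

theorem SWAP_formOfGram_eq (hF : Fintype.card F = q ^ 2) {κ : Type} [Fintype κ]
    (G : Matrix κ κ F) (x y : κ → F) :
    formOfGram (fun c : F => c ^ q) G x y = x ⬝ᵥ (G *ᵥ (fun b => SWAP_sig hF (y b))) := by
  unfold formOfGram
  simp only [dotProduct, mulVec, SWAP_sig_apply, Finset.mul_sum, mul_assoc]

theorem SWAP_conj (hF : Fintype.card F = q ^ 2) {κ : Type} [Fintype κ] [DecidableEq κ]
    (G T : Matrix κ κ F) (x y : κ → F) :
    formOfGram (fun c : F => c ^ q) G (T *ᵥ x) (T *ᵥ y) =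
      formOfGram (fun c : F => c ^ q) (Tᵀ * G * T.map (SWAP_sig hF)) x y := by
  rw [SWAP_formOfGram_eq hF, SWAP_formOfGram_eq hF]
  have h1 : (fun b => SWAP_sig hF ((T *ᵥ y) b)) =
      T.map (SWAP_sig hF) *ᵥ (fun b => SWAP_sig hF (y b)) := by
    ext b
    simp [Matrix.mulVec, dotProduct, map_sum, map_mul]
  rw [h1]
  calc (T *ᵥ x) ⬝ᵥ (G *ᵥ (T.map (SWAP_sig hF) *ᵥ (fun b => SWAP_sig hF (y b))))
      = (x ᵥ* Tᵀ) ⬝ᵥ (G *ᵥ (T.map (SWAP_sig hF) *ᵥ (fun b => SWAP_sig hF (y b)))) := by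
        rw [Matrix.vecMul_transpose]
    _ = x ⬝ᵥ (Tᵀ *ᵥ (G *ᵥ (T.map (SWAP_sig hF) *ᵥ (fun b => SWAP_sig hF (y b))))) :=
        (Matrix.dotProduct_mulVec x Tᵀ _).symm
    _ = x ⬝ᵥ ((Tᵀ * G * T.map (SWAP_sig hF)) *ᵥ (fun b => SWAP_sig hF (y b))) := by
        rw [Matrix.mulVec_mulVec, Matrix.mulVec_mulVec]

/-- the swap permutation matrix -/
def SWAP_S (F : Type*) [Field F] : Matrix (Fin 3 × Fin 3) (Fin 3 × Fin 3) F :=
  fun a b => if b = Prod.swap a then 1 else 0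

omit [Fintype F] in
theorem SWAP_S_apply (a b : Fin 3 × Fin 3) :
    SWAP_S F a b = if b = Prod.swap a then 1 else 0 := rfl

omit [Fintype F] in
theorem SWAP_S_mul (N : Matrix (Fin 3 × Fin 3) (Fin 3 × Fin 3) F) :
    SWAP_S F * N = N.submatrix Prod.swap id := by
  ext a b
  rw [Matrix.mul_apply, Matrix.submatrix_apply, Finset.sum_eq_single (Prod.swap a)]
  · simp [SWAP_S_apply]
  · intro c _ hc
    simp [SWAP_S_apply, hc]
  · intro h
    exact absurd (Finset.mem_univ _) h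

omit [Fintype F] in
theorem SWAP_mul_S (N : Matrix (Fin 3 × Fin 3) (Fin 3 × Fin 3) F) :
    N * SWAP_S F = N.submatrix id Prod.swap := by
  ext a b
  rw [Matrix.mul_apply, Matrix.submatrix_apply, Finset.sum_eq_single (Prod.swap b)]
  · simp [SWAP_S_apply]
  · intro c _ hc
    have : b ≠ Prod.swap c := by
      intro h
      apply hc
      rw [h, Prod.swap_swap]
    simp [SWAP_S_apply, this]
  · intro h
    exact absurd (Finset.mem_univ _) h

omit [Fintype F] in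
theorem SWAP_S_sq : SWAP_S F * SWAP_S F = 1 := by
  rw [SWAP_S_mul]
  ext a b
  rw [Matrix.submatrix_apply, SWAP_S_apply, Prod.swap_swap, Matrix.one_apply]
  simp [eq_comm]

omit [Fintype F] in
theorem SWAP_S_transpose : (SWAP_S F)ᵀ = SWAP_S F := by
  ext a b
  rw [Matrix.transpose_apply, SWAP_S_apply, SWAP_S_apply]
  have : a = Prod.swap b ↔ b = Prod.swap a := by
    constructor
    · intro h; rw [h, Prod.swap_swap]
    · intro h; rw [h, Prod.swap_swap]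
  simp [this]

omit [Fintype F] in
theorem SWAP_S_map (σ : F →+* F) : (SWAP_S F).map σ = SWAP_S F := by
  ext a b
  rw [Matrix.map_apply, SWAP_S_apply]
  split_ifs <;> simp

omit [Fintype F] in
theorem SWAP_S_det : (SWAP_S F).det = -1 := by
  have h1 : SWAP_S F = Equiv.Perm.permMatrix F (Equiv.prodComm (Fin 3) (Fin 3)) := by
    ext a b
    rw [SWAP_S_apply, Equiv.Perm.permMatrix, PEquiv.toMatrix_apply, Equiv.toPEquiv_apply]
    simp [eq_comm]
  rw [h1, Matrix.det_permutation]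
  have h2 : Equiv.Perm.sign (Equiv.prodComm (Fin 3) (Fin 3)) = -1 := by decide
  rw [h2]
  simp

/-- the swap permutation matrix as an invertible matrix -/
def SWAP_yS (F : Type*) [Field F] : GL (Fin 3 × Fin 3) F :=
  ⟨SWAP_S F, SWAP_S F, SWAP_S_sq, SWAP_S_sq⟩

/-- the Kronecker product of two invertible matrices -/
def SWAP_K (a b : GL (Fin 3) F) : GL (Fin 3 × Fin 3) F :=
  ⟨a.1 ⊗ₖ b.1, (a⁻¹ : GL (Fin 3) F).1 ⊗ₖ (b⁻¹ : GL (Fin 3) F).1, by
    rw [← Matrix.mul_kronecker_mul, ← Units.val_mul, ← Units.val_mul, mul_inv_cancel,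
      mul_inv_cancel, Units.val_one, Matrix.one_kronecker_one], by
    rw [← Matrix.mul_kronecker_mul, ← Units.val_mul, ← Units.val_mul, inv_mul_cancel,
      inv_mul_cancel, Units.val_one, Matrix.one_kronecker_one]⟩

/-- the swap element in standard coordinates -/
def SWAP_y (A : GL (Fin 3) F) : GL (Fin 3 × Fin 3) F :=
  SWAP_K (-A⁻¹) A * SWAP_yS F

omit [Fintype F] in
theorem SWAP_y_val (A : GL (Fin 3) F) :
    (SWAP_y A).1 = ((-(A⁻¹ : GL (Fin 3) F).1) ⊗ₖ A.1) * SWAP_S F := rfl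

omit [Fintype F] in
theorem SWAP_y_det (A : GL (Fin 3) F) : (SWAP_y A).1.det = 1 := by
  rw [SWAP_y_val, Matrix.det_mul, SWAP_S_det, Matrix.det_kronecker, Matrix.det_neg]
  have h1 : (A⁻¹ : GL (Fin 3) F).1.det * A.1.det = 1 := by
    rw [← Matrix.det_mul, ← Units.val_mul, inv_mul_cancel, Units.val_one, Matrix.det_one]
  simp only [Fintype.card_fin]
  calc ((-1 : F) ^ 3 * (A⁻¹ : GL (Fin 3) F).1.det) ^ 3 * A.1.det ^ 3 * -1
      = ((A⁻¹ : GL (Fin 3) F).1.det * A.1.det) ^ 3 := by ring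
    _ = 1 := by rw [h1, one_pow]

/-- the swap element preserves the Gram matrix `G₁ ⊗ G₂` -/
theorem SWAP_gram (hF : Fintype.card F = q ^ 2) (G₁ G₂ : Matrix (Fin 3) (Fin 3) F)
    (A : GL (Fin 3) F) (c : F) (hc : c ≠ 0)
    (hA : A.1ᵀ * G₂ * A.1.map (SWAP_sig hF) = c • G₁) :
    (SWAP_y A).1ᵀ * (G₁ ⊗ₖ G₂) * (SWAP_y A).1.map (SWAP_sig hF) = G₁ ⊗ₖ G₂ := by
  obtain ⟨X, hX⟩ : ∃ X : Matrix (Fin 3) (Fin 3) F, X = (A⁻¹ : GL (Fin 3) F).1 := ⟨_, rfl⟩
  have hAX : A.1 * X = 1 := by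
    rw [hX, ← Units.val_mul, mul_inv_cancel, Units.val_one]
  have hG1 : G₁ = c⁻¹ • (A.1ᵀ * G₂ * A.1.map (SWAP_sig hF)) := by
    rw [hA, smul_smul, inv_mul_cancel₀ hc, one_smul]
  have h1 : Xᵀ * A.1ᵀ = 1 := by
    rw [← Matrix.transpose_mul, hAX, Matrix.transpose_one]
  have h2 : A.1.map (SWAP_sig hF) * X.map (SWAP_sig hF) = 1 := by
    rw [← Matrix.map_mul, hAX, Matrix.map_one _ (map_zero _) (map_one _)]
  have h3 : Xᵀ * G₁ * X.map (SWAP_sig hF) = c⁻¹ • G₂ := by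
    rw [hG1, Matrix.mul_smul, Matrix.smul_mul]
    congr 1
    calc Xᵀ * (A.1ᵀ * G₂ * A.1.map (SWAP_sig hF)) * X.map (SWAP_sig hF)
        = (Xᵀ * A.1ᵀ) * G₂ * (A.1.map (SWAP_sig hF) * X.map (SWAP_sig hF)) := by
          simp only [Matrix.mul_assoc]
      _ = G₂ := by rw [h1, h2, Matrix.one_mul, Matrix.mul_one]
  have h4 : (-X).map (SWAP_sig hF) = -(X.map (SWAP_sig hF)) := by
    ext i j
    simp
  have h5 : ((-X) ⊗ₖ A.1)ᵀ * (G₁ ⊗ₖ G₂) * ((-X) ⊗ₖ A.1).map (SWAP_sig hF) =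
      (c⁻¹ • G₂) ⊗ₖ (c • G₁) := by
    have h6 : ((-X) ⊗ₖ A.1).map (SWAP_sig hF) =
        ((-X).map (SWAP_sig hF)) ⊗ₖ (A.1.map (SWAP_sig hF)) := by
      ext ⟨i, j⟩ ⟨k, l⟩
      simp [Matrix.kroneckerMap_apply]
    have h7 : ((-X) ⊗ₖ A.1)ᵀ = (-X)ᵀ ⊗ₖ A.1ᵀ := by
      ext ⟨i, j⟩ ⟨k, l⟩
      simp [Matrix.kroneckerMap_apply]
    rw [h6, h7, ← Matrix.mul_kronecker_mul, ← Matrix.mul_kronecker_mul, hA, h4]
    congr 1
    rw [Matrix.transpose_neg, Matrix.neg_mul, Matrix.neg_mul, Matrix.mul_neg, neg_neg, h3]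
  rw [SWAP_y_val, ← hX, Matrix.transpose_mul, Matrix.map_mul, SWAP_S_map, SWAP_S_transpose]
  calc SWAP_S F * ((-X) ⊗ₖ A.1)ᵀ * (G₁ ⊗ₖ G₂) *
        (((-X) ⊗ₖ A.1).map (SWAP_sig hF) * SWAP_S F)
      = SWAP_S F * ((((-X) ⊗ₖ A.1)ᵀ * (G₁ ⊗ₖ G₂) * ((-X) ⊗ₖ A.1).map (SWAP_sig hF)) *
          SWAP_S F) := by
        simp only [Matrix.mul_assoc]
    _ = G₁ ⊗ₖ G₂ := by
        rw [h5, SWAP_mul_S, SWAP_S_mul]
        ext ⟨i, j⟩ ⟨k, l⟩
        simp only [Matrix.submatrix_apply, Matrix.kroneckerMap_apply, Matrix.smul_apply,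
          smul_eq_mul, Prod.swap, id]
        field_simp

omit [Fintype F] in
/-- the swap element is not a Kronecker product -/
theorem SWAP_not_kron (A a b : GL (Fin 3) F) (h : (SWAP_y A).1 = a.1 ⊗ₖ b.1) : False := by
  have h1 : SWAP_yS F = (SWAP_K (-A⁻¹) A)⁻¹ * SWAP_y A := by
    unfold SWAP_y
    group
  have h2 : SWAP_S F = (((-A⁻¹)⁻¹ : GL (Fin 3) F).1 * a.1) ⊗ₖ ((A⁻¹ : GL (Fin 3) F).1 * b.1) := by
    have h3 : (SWAP_yS F).1 = ((SWAP_K (-A⁻¹) A)⁻¹ * SWAP_y A).1 := by rw [← h1]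
    have hinv : ((SWAP_K (-A⁻¹) A)⁻¹ : GL (Fin 3 × Fin 3) F).1 =
        (((-A⁻¹)⁻¹ : GL (Fin 3) F).1) ⊗ₖ ((A⁻¹ : GL (Fin 3) F).1) := rfl
    rw [Units.val_mul, h, hinv, ← Matrix.mul_kronecker_mul] at h3
    exact h3
  obtain ⟨a', ha'⟩ : ∃ a' : Matrix (Fin 3) (Fin 3) F,
      a' = ((-A⁻¹)⁻¹ : GL (Fin 3) F).1 * a.1 := ⟨_, rfl⟩
  obtain ⟨b', hb'⟩ : ∃ b' : Matrix (Fin 3) (Fin 3) F,
      b' = (A⁻¹ : GL (Fin 3) F).1 * b.1 := ⟨_, rfl⟩
  rw [← ha', ← hb'] at h2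
  have e1 : SWAP_S F (0, 0) (0, 0) = a' 0 0 * b' 0 0 := by rw [h2]; rfl
  have e2 : SWAP_S F (1, 1) (1, 1) = a' 1 1 * b' 1 1 := by rw [h2]; rfl
  have e3 : SWAP_S F (0, 1) (0, 1) = a' 0 0 * b' 1 1 := by rw [h2]; rfl
  rw [SWAP_S_apply] at e1 e2 e3
  simp at e1 e2 e3
  rcases e3 with e3 | e3
  · rw [e3] at e1; simp at e1
  · rw [e3] at e2; simp at e2

omit [Fintype F] in
theorem SWAP_val {n : ℕ} (e : Fin n ≃ Fin 3 × Fin 3) (y : GL (Fin 3 × Fin 3) F) :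
    ((glReindex (e.trans (finTwoArrowEquiv (Fin 3)).symm).symm
      (glReindex (finTwoArrowEquiv (Fin 3)).symm y) : GL (Fin n) F) :
        Matrix (Fin n) (Fin n) F) = y.1.submatrix e e := by
  ext i j
  simp [glReindex, Matrix.reindex_apply]

omit [Fintype F] in
theorem SWAP_pure (a b : GL (Fin 3) F) :
    glReindex (finTwoArrowEquiv (Fin 3)).symm (SWAP_K a b) ∈ tensorWreathStandard 3 2 F := by
  apply Subgroup.subset_closure
  left
  refine ⟨![a, b], ?_⟩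
  intro x y
  simp [glReindex, SWAP_K, Fin.prod_univ_two, Matrix.reindex_apply, Matrix.kroneckerMap_apply]

omit [Fintype F] in
theorem SWAP_perm :
    glReindex (finTwoArrowEquiv (Fin 3)).symm (SWAP_yS F) ∈ tensorWreathStandard 3 2 F := by
  apply Subgroup.subset_closure
  right
  refine ⟨Equiv.swap 0 1, ?_⟩
  intro x y
  have h1 : ((glReindex (finTwoArrowEquiv (Fin 3)).symm (SWAP_yS F) : GL (Fin 2 → Fin 3) F) :
      Matrix (Fin 2 → Fin 3) (Fin 2 → Fin 3) F) x y = SWAP_S F (x 0, x 1) (y 0, y 1) := by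
    simp [glReindex, SWAP_yS, Matrix.reindex_apply]
  rw [h1, SWAP_S_apply]
  have h2 : ((y 0, y 1) = Prod.swap (x 0, x 1)) ↔ y = x ∘ (Equiv.swap (0 : Fin 2) 1) := by
    constructor
    · intro h
      have h3 : y 0 = x 1 := congrArg Prod.fst h
      have h4 : y 1 = x 0 := congrArg Prod.snd h
      funext i
      fin_cases i
      · simpa using h3
      · simpa using h4
    · intro h
      rw [h]
      simp
  simp only [h2]

/-- SWAP: the stabiliser in `SU_9(q)` of a tensor product decomposition `3 ⊗ 3` with forms is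
properly contained in the stabiliser of the tensor square: a swap element. -/
theorem SWAP (hF : Fintype.card F = q ^ 2) (e : Fin 9 ≃ Fin 3 × Fin 3) (P : GL (Fin 9) F)
    (G₁ G₂ : Matrix (Fin 3) (Fin 3) F)
    (hid : ∀ x y : Fin 3 × Fin 3 → F,
      Cfsg.hermForm 9 F q (P.1 *ᵥ (x ∘ e)) (P.1 *ᵥ (y ∘ e)) =
        formOfGram (fun c : F => c ^ q) (G₁ ⊗ₖ G₂) x y)
    (A : GL (Fin 3) F) (c : F) (hc : c ≠ 0)
    (hA : A.1ᵀ * G₂ * A.1.map (fun x : F => x ^ q) = c • G₁) :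
    ∃ s : GL (Fin 9) F, s ∈ Cfsg.GU 9 F q ⊓ specialLinear (Fin 9) F ∧
      s ∈ tensorWreathSubgroup 3 2 (e.trans (finTwoArrowEquiv (Fin 3)).symm) P ∧
      s ∉ tensorProductSubgroup 3 3 e P := by
  classical
  obtain ⟨w, hw⟩ : ∃ w : GL (Fin 9) F,
      w = glReindex (e.trans (finTwoArrowEquiv (Fin 3)).symm).symm
        (glReindex (finTwoArrowEquiv (Fin 3)).symm (SWAP_y A)) := ⟨_, rfl⟩
  have hwv : w.1 = (SWAP_y A).1.submatrix e e := by
    rw [hw]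
    exact SWAP_val e (SWAP_y A)
  have hPP : (P⁻¹ : GL (Fin 9) F).1 * P.1 = 1 := by
    rw [← Units.val_mul, inv_mul_cancel, Units.val_one]
  have hPP' : P.1 * (P⁻¹ : GL (Fin 9) F).1 = 1 := by
    rw [← Units.val_mul, mul_inv_cancel, Units.val_one]
  have hsv : (P * w * P⁻¹ : GL (Fin 9) F).1 =
      P.1 * (SWAP_y A).1.submatrix e e * (P⁻¹ : GL (Fin 9) F).1 := by
    rw [Units.val_mul, Units.val_mul, hwv]
  have hg : (SWAP_y A).1ᵀ * (G₁ ⊗ₖ G₂) * (SWAP_y A).1.map (SWAP_sig hF) = G₁ ⊗ₖ G₂ :=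
    SWAP_gram hF G₁ G₂ A c hc hA
  refine ⟨P * w * P⁻¹, ⟨?_, ?_⟩, ?_, ?_⟩
  · -- unitary
    intro u v
    show Cfsg.hermForm 9 F q ((P * w * P⁻¹ : GL (Fin 9) F).1 *ᵥ u)
      ((P * w * P⁻¹ : GL (Fin 9) F).1 *ᵥ v) = Cfsg.hermForm 9 F q u v
    have key : ∀ u : Fin 9 → F, ∃ x : Fin 3 × Fin 3 → F, u = P.1 *ᵥ (x ∘ e) ∧
        (P * w * P⁻¹ : GL (Fin 9) F).1 *ᵥ u = P.1 *ᵥ (((SWAP_y A).1 *ᵥ x) ∘ e) := by
      intro u
      refine ⟨((P⁻¹ : GL (Fin 9) F).1 *ᵥ u) ∘ e.symm, ?_, ?_⟩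
      · have : (((P⁻¹ : GL (Fin 9) F).1 *ᵥ u) ∘ e.symm) ∘ e = (P⁻¹ : GL (Fin 9) F).1 *ᵥ u := by
          ext i
          simp
        rw [this, Matrix.mulVec_mulVec, hPP', Matrix.one_mulVec]
      · rw [hsv, ← Matrix.mulVec_mulVec, ← Matrix.mulVec_mulVec, Matrix.submatrix_mulVec_equiv]
    obtain ⟨x, hx1, hx2⟩ := key u
    obtain ⟨x', hx1', hx2'⟩ := key v
    rw [hx2, hx2', hid, SWAP_conj hF, hg, ← hid, ← hx1, ← hx1']
  · -- determinant one
    show Matrix.GeneralLinearGroup.det (P * w * P⁻¹) = 1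
    apply Units.ext
    rw [Matrix.GeneralLinearGroup.val_det_apply, hsv, Matrix.det_units_conj,
      Matrix.det_submatrix_equiv_self, SWAP_y_det]
    rfl
  · -- in the tensor wreath subgroup
    unfold tensorWreathSubgroup
    refine ⟨w, ⟨glReindex (finTwoArrowEquiv (Fin 3)).symm (SWAP_y A), ?_, hw.symm⟩, rfl⟩
    unfold SWAP_y
    rw [map_mul]
    exact Subgroup.mul_mem _ (SWAP_pure _ _) SWAP_perm
  · -- not in the tensor product subgroup
    intro hmem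
    obtain ⟨a, b, hab⟩ := (mem_tensorProductSubgroup_iff e P _).1 hmem
    rw [hsv] at hab
    unfold tmat at hab
    have h1 : (SWAP_y A).1.submatrix e e = Matrix.reindex e.symm e.symm (a.1 ⊗ₖ b.1) := by
      have h2 : (P⁻¹ : GL (Fin 9) F).1 *
              (P.1 * (SWAP_y A).1.submatrix e e * (P⁻¹ : GL (Fin 9) F).1) * P.1 =
          (P⁻¹ : GL (Fin 9) F).1 *
              (P.1 * Matrix.reindex e.symm e.symm (a.1 ⊗ₖ b.1) * (P⁻¹ : GL (Fin 9) F).1) *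
                P.1 := by rw [hab]
      calc (SWAP_y A).1.submatrix e e
          = ((P⁻¹ : GL (Fin 9) F).1 * P.1) * (SWAP_y A).1.submatrix e e *
              ((P⁻¹ : GL (Fin 9) F).1 * P.1) := by
            rw [hPP, Matrix.one_mul, Matrix.mul_one]
        _ = (P⁻¹ : GL (Fin 9) F).1 *
              (P.1 * (SWAP_y A).1.submatrix e e * (P⁻¹ : GL (Fin 9) F).1) * P.1 := by
            simp only [Matrix.mul_assoc]
        _ = (P⁻¹ : GL (Fin 9) F).1 *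
              (P.1 * Matrix.reindex e.symm e.symm (a.1 ⊗ₖ b.1) * (P⁻¹ : GL (Fin 9) F).1) *
                P.1 := h2
        _ = ((P⁻¹ : GL (Fin 9) F).1 * P.1) * Matrix.reindex e.symm e.symm (a.1 ⊗ₖ b.1) *
              ((P⁻¹ : GL (Fin 9) F).1 * P.1) := by
            simp only [Matrix.mul_assoc]
        _ = Matrix.reindex e.symm e.symm (a.1 ⊗ₖ b.1) := by
            rw [hPP, Matrix.one_mul, Matrix.mul_one]
    have h3 : (SWAP_y A).1 = a.1 ⊗ₖ b.1 := by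
      ext i j
      have h4 := congrFun (congrFun h1 (e.symm i)) (e.symm j)
      simpa [Matrix.reindex_apply] using h4
    exact SWAP_not_kron A a b h3

end Cfsg.Agent.Lib.Helper44.U9
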